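import Mathlib

/-!
# Pairs of proper subgroups covering a group up to conjugation
-/

set_option autoImplicit false

namespace CfsgLib.KnownA.NormalCover

variable {G : Type*} [Group G]

/-- Every element is conjugate into one of the two subgroups. -/
def Covers (H K : Subgroup G) : Prop := ∀ g : G, ∃ x : G, x * g * x⁻¹ ∈ H ∨ x * g * x⁻¹ ∈ K

theorem map_mk_ne_top {N : Subgroup G} [N.Normal] {H : Subgroup G} (hN : N ≤ H) (hH : H ≠ ⊤) :
    H.map (QuotientGroup.mk' N) ≠ ⊤ := fun h => hH <| by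
  have := congrArg (Subgroup.comap (QuotientGroup.mk' N)) h
  rwa [Subgroup.comap_map_eq, QuotientGroup.ker_mk', sup_eq_left.2 hN, Subgroup.comap_top] at this

theorem Covers.quotient {N : Subgroup G} [N.Normal] {H K : Subgroup G} (h : Covers H K)
    (hNH : N ≤ H) (hH : H ≠ ⊤) (hNK : N ≤ K) (hK : K ≠ ⊤) :
    ∃ H' K' : Subgroup (G ⧸ N), H' ≠ ⊤ ∧ K' ≠ ⊤ ∧ ∀ g : G ⧸ N, ∃ x : G ⧸ N, x * g * x⁻¹ ∈ H' ∨ x * g * x⁻¹ ∈ K' := by
  refine ⟨_, _, map_mk_ne_top hNH hH, map_mk_ne_top hNK hK, fun g => ?_⟩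
  obtain ⟨g, rfl⟩ := QuotientGroup.mk'_surjective N g
  obtain ⟨x, hx⟩ := h g
  exact ⟨QuotientGroup.mk' N x, hx.imp (fun h => ⟨_, h, by simp⟩) (fun h => ⟨_, h, by simp⟩)⟩

theorem Covers.comap {G' : Type*} [Group G'] (e : G' ≃* G) {H K : Subgroup G} (h : Covers H K) :
    Covers (H.comap e.toMonoidHom) (K.comap e.toMonoidHom) := fun g => by
  obtain ⟨x, hx⟩ := h (e g)
  exact ⟨e.symm x, hx.imp (fun h => by simpa using h) (fun h => by simpa using h)⟩

theorem comap_ne_top {G' : Type*} [Group G'] (e : G' ≃* G) {H : Subgroup G} (hH : H ≠ ⊤) :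
    H.comap e.toMonoidHom ≠ ⊤ := fun h => hH <| by
  rw [← Subgroup.map_comap_eq_self_of_surjective (f := e.toMonoidHom) e.surjective H, h,
    Subgroup.map_top_of_surjective _ e.surjective]

end CfsgLib.KnownA.NormalCover
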