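import Cfsg.Agent.Lib.KnownA.NormalCover.FieldStr

/-!
# Transformations of three dimensional spaces
-/

set_option autoImplicit false
set_option linter.unusedSectionVars false

open Module Polynomial

namespace CfsgLib.KnownA.NormalCover.Cubic

variable {F : Type*} [Field F] [Fintype F] {V : Type*} [AddCommGroup V] [Module F V] [FiniteDimensional F V]

theorem dvd_of_aeval_apply_eq_zero {G : Module.End F V} {m r : F[X]} (hm : Irreducible m) (hG : aeval G m = 0)
    {v : V} (hv : v ≠ 0) (h : aeval G r v = 0) : m ∣ r := by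
  by_contra hd
  obtain ⟨a, b, hab⟩ := hm.coprime_iff_not_dvd.2 hd
  refine hv ?_
  have e := congrArg (fun p : F[X] => aeval G p v) hab
  simpa [map_add, map_mul, hG, h, Module.End.mul_apply] using e.symm

/-- Every vector is obtained from a non-zero one by a polynomial in `G`. -/
theorem exists_aeval_apply {G : Module.End F V} {m : F[X]} (hm : Irreducible m) (hG : aeval G m = 0)
    (hd : m.natDegree = finrank F V) {v : V} (hv : v ≠ 0) (w : V) : ∃ r : F[X], aeval G r v = w := by
  let T : (Fin (finrank F V) → F) →ₗ[F] V := Fintype.linearCombination F fun i => (G ^ (i : ℕ)) v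
  have hT : ∀ c, T c = aeval G (∑ i : Fin (finrank F V), C (c i) * X ^ (i : ℕ)) v := fun c => by
    simp [T, Fintype.linearCombination_apply, map_sum]
  have hinj : Function.Injective T := by
    refine (injective_iff_map_eq_zero _).2 fun c hc => funext fun j => ?_
    have hdvd := dvd_of_aeval_apply_eq_zero hm hG hv (by rw [← hT]; exact hc)
    have h0 : (∑ i : Fin (finrank F V), C (c i) * X ^ (i : ℕ)) = 0 := by
      refine eq_zero_of_dvd_of_degree_lt hdvd ?_
      rw [degree_eq_natDegree hm.ne_zero, hd]
      exact degree_sum_fin_lt c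
    have h := congrArg (fun p : F[X] => p.coeff j) h0
    simpa [finsetSum_coeff, coeff_X_pow, Fin.val_inj] using h
  have hs := (LinearMap.injective_iff_surjective_of_finrank_eq_finrank (Module.finrank_fin_fun F)).1 hinj
  obtain ⟨c, hc⟩ := hs w
  exact ⟨_, (hT c).symm.trans hc⟩

theorem exists_aeval_of_commute {G : Module.End F V} {m : F[X]} (hm : Irreducible m) (hG : aeval G m = 0)
    (hd : m.natDegree = finrank F V) [Nontrivial V] {T : Module.End F V} (hT : Commute T G) :
    ∃ r : F[X], T = aeval G r := by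
  obtain ⟨v, hv⟩ := exists_ne (0 : V)
  obtain ⟨r, hr⟩ := exists_aeval_apply hm hG hd hv (T v)
  refine ⟨r, LinearMap.ext fun w => ?_⟩
  obtain ⟨s, rfl⟩ := exists_aeval_apply hm hG hd hv w
  have hc : Commute T (aeval G s) :=
    Algebra.commute_of_mem_adjoin_singleton_of_commute (aeval_mem_adjoin_singleton F G) hT
  rw [← Module.End.mul_apply, hc.eq, Module.End.mul_apply, ← hr, ← Module.End.mul_apply, ← Module.End.mul_apply,
    ← map_mul, ← map_mul, mul_comm]

theorem irreducible_minpoly (hV : finrank F V = 3) {g : Module.End F V}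
    (h : ∀ (c : F) (v : V), g v = c • v → v = 0) :
    Irreducible (minpoly F g) ∧ (minpoly F g).natDegree = 3 := by
  haveI : Nontrivial V := Module.nontrivial_of_finrank_pos (R := F) (by omega)
  have hle := FieldStr.natDegree_minpoly_le g
  have hnr := FieldStr.no_root_minpoly h
  have hm0 := (minpoly.monic (IsIntegral.of_finite F g)).ne_zero
  obtain ⟨p, hp, hpi, r, hr⟩ := Polynomial.exists_monic_irreducible_factor _ (minpoly.not_isUnit F g)
  have hr0 : r ≠ 0 := fun e => hm0 (by rw [hr, e, mul_zero])
  have hp2 := FieldStr.two_le_natDegree hpi fun c hc => hnr c (hc.dvd (hr ▸ dvd_mul_right _ _))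
  rw [hr, natDegree_mul hpi.ne_zero hr0, hV] at hle
  have hrd : r.natDegree = 0 := by
    by_contra hne
    obtain ⟨c, hc⟩ := exists_root_of_degree_eq_one ((degree_eq_iff_natDegree_eq (n := 1) hr0).2 (by omega))
    exact hnr c (hc.dvd (hr ▸ dvd_mul_left _ _))
  have hu : IsUnit r := isUnit_iff_degree_eq_zero.2 ((degree_eq_iff_natDegree_eq (n := 0) hr0).2 hrd)
  have hi : Irreducible (minpoly F g) := hr ▸ (irreducible_mul_isUnit hu).2 hpi
  refine ⟨hi, ?_⟩
  have h2 := FieldStr.two_le_natDegree hi hnr
  have hd := FieldStr.natDegree_dvd hi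
  rw [hV] at hd
  rcases (Nat.dvd_prime Nat.prime_three).1 hd with e | e
  · omega
  · exact e

/-- Two single nilpotent blocks are similar. -/
theorem exists_conj_block (hV : finrank F V = 3) {N N' : Module.End F V} (h : N ^ 3 = 0) (h2 : N ^ 2 ≠ 0)
    (h' : N' ^ 3 = 0) (h2' : N' ^ 2 ≠ 0) : ∃ e : V ≃ₗ[F] V, ∀ v, e (N v) = N' (e v) := by
  have key : ∀ M : Module.End F V, M ^ 3 = 0 → M ^ 2 ≠ 0 →
      ∃ T : (Fin 3 → F) ≃ₗ[F] V, ∀ c, M (T c) = T ![0, c 0, c 1] := by
    intro M hM hM2
    obtain ⟨x, hx⟩ : ∃ x, (M ^ 2) x ≠ 0 := by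
      by_contra hall
      push Not at hall
      exact hM2 (LinearMap.ext hall)
    have hx2 : M (M x) ≠ 0 := by rwa [← Module.End.mul_apply, ← pow_two]
    have hx3 : M (M (M x)) = 0 := by
      have := congrArg (fun f : Module.End F V => f x) hM
      simpa [pow_succ] using this
    let T : (Fin 3 → F) →ₗ[F] V := Fintype.linearCombination F ![x, M x, M (M x)]
    have hT : ∀ c, T c = c 0 • x + c 1 • M x + c 2 • M (M x) := fun c => by
      simp [T, Fintype.linearCombination_apply, Fin.sum_univ_three]
    have hinj : Function.Injective T := by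
      refine (injective_iff_map_eq_zero _).2 fun c hc => ?_
      rw [hT] at hc
      have h0 := congrArg (fun v => M (M v)) hc
      simp only [map_add, map_smul, hx3, map_zero, smul_zero, add_zero] at h0
      have c0 := (smul_eq_zero.1 h0).resolve_right hx2
      rw [c0, zero_smul, zero_add] at hc
      have h1 := congrArg M hc
      simp only [map_add, map_smul, hx3, map_zero, smul_zero, add_zero] at h1
      have c1 := (smul_eq_zero.1 h1).resolve_right hx2
      rw [c1, zero_smul, zero_add] at hc
      have c2 := (smul_eq_zero.1 hc).resolve_right hx2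
      funext i
      fin_cases i <;> assumption
    refine ⟨LinearEquiv.ofBijective T ⟨hinj,
      (LinearMap.injective_iff_surjective_of_finrank_eq_finrank (by rw [Module.finrank_fin_fun, hV])).1 hinj⟩,
      fun c => ?_⟩
    show M (T c) = T _
    rw [hT, hT]
    simp [map_add, map_smul, hx3]
  obtain ⟨T, hT⟩ := key N h h2
  obtain ⟨T', hT'⟩ := key N' h' h2'
  refine ⟨T.symm.trans T', fun v => ?_⟩
  obtain ⟨c, rfl⟩ := T.surjective v
  simp [hT, hT']

end CfsgLib.KnownA.NormalCover.Cubic
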