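import Mathlib

/-!
# Field structures commuting with an endomorphism
-/

set_option autoImplicit false
set_option linter.unusedSectionVars false

open Module Polynomial

namespace CfsgLib.KnownA.NormalCover.FieldStr

variable {F : Type*} [Field F] [Finite F]

theorem exists_irreducible (r : ℕ) [NeZero r] : ∃ φ : F[X], φ.Monic ∧ Irreducible φ ∧ φ.natDegree = r := by
  obtain ⟨p, hp⟩ := CharP.exists F
  haveI : Fact p.Prime := ⟨CharP.char_is_prime F p⟩
  let E := FiniteField.Extension F p r
  obtain ⟨α, hα⟩ := Field.exists_primitive_element F E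
  have hi : IsIntegral F α := IsIntegral.of_finite F α
  refine ⟨minpoly F α, minpoly.monic hi, minpoly.irreducible hi, ?_⟩
  rw [← IntermediateField.adjoin.finrank hi, hα, IntermediateField.finrank_top']
  exact FiniteField.finrank_extension F p r

/-- A root of `φ` modulo an irreducible polynomial whose degree is a multiple of that of `φ`. -/
theorem exists_root_mod {φ p : F[X]} (hφ : Irreducible φ) (hp : Irreducible p) (hd : φ.natDegree ∣ p.natDegree) :
    ∃ h : F[X], p ∣ φ.comp h := by
  haveI := Fact.mk hφ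
  haveI := Fact.mk hp
  let P := AdjoinRoot.powerBasis hp.ne_zero
  haveI : FiniteDimensional F (AdjoinRoot p) := P.finite
  haveI : Finite (AdjoinRoot p) := Module.finite_of_finite F
  obtain ⟨e⟩ := FiniteField.nonempty_algHom_of_finrank_dvd (F := F) (K := AdjoinRoot φ) (L := AdjoinRoot p)
    (by rwa [(AdjoinRoot.powerBasis hp.ne_zero).finrank, (AdjoinRoot.powerBasis hφ.ne_zero).finrank,
      AdjoinRoot.powerBasis_dim, AdjoinRoot.powerBasis_dim])
  obtain ⟨h, hh⟩ := AdjoinRoot.mk_surjective (e (AdjoinRoot.root φ))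
  refine ⟨h, AdjoinRoot.mk_eq_zero.1 ?_⟩
  rw [← AdjoinRoot.aeval_eq, aeval_comp, AdjoinRoot.aeval_eq, hh, aeval_algHom_apply, AdjoinRoot.aeval_eq,
    AdjoinRoot.mk_self, map_zero]

theorem exists_root_mul {φ a b : F[X]} (hab : IsCoprime a b) (ha : ∃ h, a ∣ φ.comp h) (hb : ∃ h, b ∣ φ.comp h) :
    ∃ h, a * b ∣ φ.comp h := by
  obtain ⟨h₁, d₁⟩ := ha
  obtain ⟨h₂, d₂⟩ := hb
  obtain ⟨u, v, huv⟩ := hab
  have key : ∀ c h h' : F[X], c ∣ h - h' → c ∣ φ.comp h' → c ∣ φ.comp h := fun c h h' hd hc => by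
    have : c ∣ φ.comp h - φ.comp h' :=
      hd.trans (by rw [comp, comp, ← eval_map, ← eval_map]; exact Polynomial.sub_dvd_eval_sub h h' _)
    simpa using this.add hc
  refine ⟨h₁ + (h₂ - h₁) * (u * a), IsCoprime.mul_dvd ⟨u, v, huv⟩ (key a _ h₁ ⟨(h₂ - h₁) * u, by ring⟩ d₁)
    (key b _ h₂ ⟨-(h₂ - h₁) * v, ?_⟩ d₂)⟩
  linear_combination (h₂ - h₁) * huv

theorem exists_root_sq {φ a : F[X]} (ha : ∃ h, a ∣ φ.comp h) : ∃ h, a * a ∣ φ.comp h := by
  haveI := Fintype.ofFinite F
  obtain ⟨h, d⟩ := ha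
  refine ⟨h ^ Fintype.card F, ?_⟩
  have : φ.comp (h ^ Fintype.card F) = (φ.comp h) ^ Fintype.card F :=
    calc φ.comp (h ^ Fintype.card F) = (φ.comp (X ^ Fintype.card F)).comp h := by rw [comp_assoc, X_pow_comp]
      _ = (φ ^ Fintype.card F).comp h := by rw [← expand_eq_comp_X_pow, FiniteField.expand_card]
      _ = (φ.comp h) ^ Fintype.card F := pow_comp _ _ _
  rw [this, ← pow_two]
  exact (pow_dvd_pow_of_dvd d 2).trans (pow_dvd_pow _ Fintype.one_lt_card)

variable {V : Type*} [AddCommGroup V] [Module F V] [FiniteDimensional F V]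

theorem exists_commuting_root {φ : F[X]} {g : Module.End F V} (h : ∃ h, minpoly F g ∣ φ.comp h) :
    ∃ J : Module.End F V, Commute g J ∧ aeval J φ = 0 := by
  obtain ⟨h, d⟩ := h
  refine ⟨aeval g h, by simpa using (Commute.all (X : F[X]) h).map (aeval g), ?_⟩
  rw [← aeval_comp]
  obtain ⟨c, hc⟩ := d
  rw [hc, map_mul, minpoly.aeval, zero_mul]

/-- Coordinates over the field generated by a root of `φ`. -/
theorem exists_coord {φ : F[X]} (hφ : Irreducible φ) {J : Module.End F V} (hJ : aeval J φ = 0) :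
    ∃ (s : ℕ) (ψ : (Fin s → AdjoinRoot φ) ≃ₗ[F] V), φ.natDegree * s = finrank F V ∧
      ∀ c, ψ (fun i => AdjoinRoot.root φ * c i) = J (ψ c) := by
  haveI := Fact.mk hφ
  let ρ : AdjoinRoot φ →ₐ[F] Module.End F V := Ideal.Quotient.liftₐ (Ideal.span {φ}) (aeval J) fun a ha => by
    obtain ⟨c, rfl⟩ := Ideal.mem_span_singleton.1 ha
    rw [map_mul, hJ, zero_mul]
  letI : Module (AdjoinRoot φ) V := Module.compHom V ρ.toRingHom
  haveI : IsScalarTower F (AdjoinRoot φ) V := ⟨fun c k v => by
    show ρ (c • k) v = c • ρ k v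
    rw [map_smul]; rfl⟩
  haveI : Module.Finite (AdjoinRoot φ) V := Module.Finite.of_restrictScalars_finite F _ V
  haveI : FiniteDimensional F (AdjoinRoot φ) := (AdjoinRoot.powerBasis hφ.ne_zero).finite
  let b := Module.finBasis (AdjoinRoot φ) V
  refine ⟨_, b.equivFun.symm.restrictScalars F, ?_, fun c => ?_⟩
  · rw [← Module.finrank_mul_finrank F (AdjoinRoot φ) V, (AdjoinRoot.powerBasis hφ.ne_zero).finrank,
      AdjoinRoot.powerBasis_dim]
  · show b.equivFun.symm (AdjoinRoot.root φ • c) = J (b.equivFun.symm c)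
    rw [map_smul]
    exact congrArg (fun T : Module.End F V => T _) (aeval_X J)

theorem natDegree_dvd {g : Module.End F V} (hg : Irreducible (minpoly F g)) :
    (minpoly F g).natDegree ∣ finrank F V := by
  obtain ⟨s, -, hs, -⟩ := exists_coord hg (minpoly.aeval F g)
  exact ⟨s, hs.symm⟩

/-- Any two roots of `φ` are conjugate by a map of any prescribed determinant. -/
theorem exists_conj {φ : F[X]} (hφ : Irreducible φ) (hV : 0 < finrank F V) {J J' : Module.End F V}
    (hJ : aeval J φ = 0) (hJ' : aeval J' φ = 0) {d : F} (hd : d ≠ 0) :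
    ∃ x : V ≃ₗ[F] V, LinearMap.det x.toLinearMap = d ∧ ∀ v, x (J v) = J' (x v) := by
  classical
  haveI := Fact.mk hφ
  obtain ⟨s, ψ, hs, hψ⟩ := exists_coord hφ hJ
  obtain ⟨s', ψ', hs', hψ'⟩ := exists_coord hφ hJ'
  obtain rfl : s = s' := Nat.eq_of_mul_eq_mul_left hφ.natDegree_pos (hs.trans hs'.symm)
  set K := AdjoinRoot φ
  haveI : FiniteDimensional F K := (AdjoinRoot.powerBasis hφ.ne_zero).finite
  haveI : Finite K := Module.finite_of_finite F
  let e := ψ.symm.trans ψ'
  have hdet : LinearMap.det e.toLinearMap ≠ 0 := (LinearEquiv.isUnit_det' e).ne_zero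
  have hs0 : 0 < s := pos_of_mul_pos_right (hs.symm ▸ hV) (Nat.zero_le _)
  obtain ⟨k, hk⟩ := FiniteField.norm_surjective F K (d / LinearMap.det e.toLinearMap)
  have hk0 : k ≠ 0 := by
    rintro rfl
    rw [Algebra.norm_zero] at hk
    exact div_ne_zero hd hdet hk.symm
  -- multiply one coordinate
  let M : Matrix (Fin s) (Fin s) K := Matrix.diagonal (Function.update 1 ⟨0, hs0⟩ k)
  have hM : M.det = k := by
    rw [Matrix.det_diagonal, Finset.prod_update_of_mem (Finset.mem_univ _)]
    simp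
  let f : (Fin s → K) →ₗ[K] (Fin s → K) := Matrix.toLin' M
  have hf : LinearMap.det (f.restrictScalars F) = d / LinearMap.det e.toLinearMap := by
    rw [LinearMap.det_restrictScalars, LinearMap.det_toLin', hM, hk]
  let f' : (Fin s → K) ≃ₗ[F] (Fin s → K) := LinearMap.equivOfDetNeZero _ (hf ▸ div_ne_zero hd hdet :
    LinearMap.det (f.restrictScalars F) ≠ 0)
  refine ⟨(ψ.symm.trans f').trans ψ', ?_, fun v => ?_⟩
  · have hsplit : ((ψ.symm.trans f').trans ψ').toLinearMap =
        e.toLinearMap ∘ₗ (ψ.toLinearMap ∘ₗ f.restrictScalars F ∘ₗ ψ.symm.toLinearMap) := by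
      ext v
      simp [e, f']
    rw [hsplit, LinearMap.det_comp, LinearMap.det_conj, hf, mul_div_cancel₀ _ hdet]
  · obtain ⟨c, rfl⟩ := ψ.surjective v
    rw [← hψ]
    simp only [LinearEquiv.trans_apply, LinearEquiv.symm_apply_apply]
    rw [← hψ']
    refine congrArg ψ' ?_
    show f (AdjoinRoot.root φ • c) = AdjoinRoot.root φ • f c
    exact map_smul f _ _

theorem exists_root_struct (r : ℕ) [NeZero r] (hr : r ∣ finrank F V) {φ : F[X]} (hφ : Irreducible φ)
    (hd : φ.natDegree = r) : ∃ J : Module.End F V, aeval J φ = 0 := by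
  haveI := Fact.mk hφ
  set K := AdjoinRoot φ
  haveI : FiniteDimensional F K := (AdjoinRoot.powerBasis hφ.ne_zero).finite
  obtain ⟨s, hs⟩ := hr
  have e : finrank F (Fin s → K) = finrank F V := by
    rw [Module.finrank_pi_fintype, Finset.sum_const, Finset.card_univ, Fintype.card_fin, smul_eq_mul,
      (AdjoinRoot.powerBasis hφ.ne_zero).finrank, AdjoinRoot.powerBasis_dim, hd, hs, mul_comm]
  let ψ := LinearEquiv.ofFinrankEq (R := F) _ _ e
  refine ⟨ψ.conjAlgEquiv F (Algebra.lsmul F F (Fin s → K) (AdjoinRoot.root φ)), ?_⟩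
  show aeval ((ψ.conjAlgEquiv F).toAlgHom (Algebra.lsmul F F (Fin s → K) (AdjoinRoot.root φ))) φ = 0
  rw [aeval_algHom_apply, aeval_algHom_apply, AdjoinRoot.aeval_eq,
    AdjoinRoot.mk_self, map_zero, map_zero]

theorem no_root_minpoly {g : Module.End F V} (h : ∀ (c : F) (v : V), g v = c • v → v = 0) (c : F) :
    ¬ (minpoly F g).IsRoot c := by
  intro hc
  obtain ⟨v, hv⟩ := (Module.End.hasEigenvalue_iff_isRoot.2 hc).exists_hasEigenvector
  exact hv.2 (h c v (Module.End.mem_eigenspace_iff.1 hv.1))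

theorem natDegree_minpoly_le (g : Module.End F V) : (minpoly F g).natDegree ≤ finrank F V := by
  rw [← LinearMap.charpoly_natDegree g]
  exact natDegree_le_of_dvd (LinearMap.minpoly_dvd_charpoly g) (LinearMap.charpoly_monic g).ne_zero

theorem two_le_natDegree {m : F[X]} (hm : Irreducible m) (hr : ∀ c, ¬ m.IsRoot c) : 2 ≤ m.natDegree := by
  by_contra hlt
  have : m.natDegree = 1 := by
    have := hm.natDegree_pos
    omega
  obtain ⟨c, hc⟩ := exists_root_of_degree_eq_one ((degree_eq_iff_natDegree_eq hm.ne_zero).2 this)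
  exact hr c hc

theorem exists_commuting_three (hV : finrank F V = 3) {g : Module.End F V}
    (h : ∀ (c : F) (v : V), g v = c • v → v = 0) {φ : F[X]} (hφ : Irreducible φ) (hd : φ.natDegree = 3) :
    ∃ J : Module.End F V, Commute g J ∧ aeval J φ = 0 := by
  have hle := natDegree_minpoly_le g
  haveI : Nontrivial V := Module.nontrivial_of_finrank_pos (R := F) (by omega)
  have h1 := minpoly.not_isUnit F g
  obtain ⟨p, hp, hpi, r, hr⟩ := Polynomial.exists_monic_irreducible_factor (minpoly F g) h1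
  have hm0 := (minpoly.monic (IsIntegral.of_finite F g)).ne_zero
  have hr0 : r ≠ 0 := fun e => hm0 (by rw [hr, e, mul_zero])
  have hnr := no_root_minpoly h
  have hp2 := two_le_natDegree hpi fun c hc => hnr c (by rw [hr]; exact IsRoot.dvd hc (dvd_mul_right _ _))
  have hdeg : p.natDegree + r.natDegree ≤ 3 := by
    rw [← natDegree_mul hpi.ne_zero hr0, ← hr, ← hV]; exact hle
  have hrdeg : r.natDegree = 0 := by
    by_contra hne
    have : r.natDegree = 1 := by omega
    obtain ⟨c, hc⟩ := exists_root_of_degree_eq_one ((degree_eq_iff_natDegree_eq hr0).2 this)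
    exact hnr c (by rw [hr]; exact IsRoot.dvd hc (dvd_mul_left _ _))
  have hu : IsUnit r := isUnit_iff_degree_eq_zero.2 ((degree_eq_iff_natDegree_eq hr0).2 hrdeg)
  have hmi : Irreducible (minpoly F g) := hr ▸ (irreducible_mul_isUnit hu).2 hpi
  have h3 : (minpoly F g).natDegree = 3 := by
    have := natDegree_dvd hmi
    rw [hV] at this
    rcases (Nat.dvd_prime Nat.prime_three).1 this with e | e
    · have := two_le_natDegree hmi hnr; omega
    · exact e
  exact exists_commuting_root (exists_root_mod hφ hmi (by rw [hd, h3]))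

theorem exists_commuting_four (hV : finrank F V = 4) {g : Module.End F V}
    (h : ∀ (c : F) (v : V), g v = c • v → v = 0) {φ : F[X]} (hφ : Irreducible φ) (hd : φ.natDegree = 2) :
    ∃ J : Module.End F V, Commute g J ∧ aeval J φ = 0 := by
  have hle := natDegree_minpoly_le g
  haveI : Nontrivial V := Module.nontrivial_of_finrank_pos (R := F) (by omega)
  have hnr := no_root_minpoly h
  by_cases hmi : Irreducible (minpoly F g)
  · have h2 := two_le_natDegree hmi hnr
    have := natDegree_dvd hmi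
    rw [hV] at this hle
    exact exists_commuting_root (exists_root_mod hφ hmi (by
      rw [hd]
      interval_cases hn : (minpoly F g).natDegree <;> simp_all))
  · obtain ⟨p, hp, hpi, r, hr⟩ := Polynomial.exists_monic_irreducible_factor (minpoly F g) (minpoly.not_isUnit F g)
    have hm0 := (minpoly.monic (IsIntegral.of_finite F g)).ne_zero
    have hr0 : r ≠ 0 := fun e => hm0 (by rw [hr, e, mul_zero])
    have hru : ¬ IsUnit r := fun hu => hmi (hr ▸ (irreducible_mul_isUnit hu).2 hpi)
    obtain ⟨p', hp', hpi', r', hr'⟩ := Polynomial.exists_monic_irreducible_factor r hru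
    have hr0' : r' ≠ 0 := fun e => hr0 (by rw [hr', e, mul_zero])
    have hroot : ∀ t, t ∣ minpoly F g → ∀ c, ¬ t.IsRoot c := fun t ht c hc => hnr c (hc.dvd ht)
    have hp2 := two_le_natDegree hpi (hroot p (hr ▸ dvd_mul_right _ _))
    have hp2' := two_le_natDegree hpi' (hroot p' (hr ▸ Dvd.dvd.mul_left (hr' ▸ dvd_mul_right _ _) _))
    have hdeg : p.natDegree + (p'.natDegree + r'.natDegree) ≤ 4 := by
      rw [← natDegree_mul hpi'.ne_zero hr0', ← hr', ← natDegree_mul hpi.ne_zero hr0, ← hr, ← hV]; exact hle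
    have hu : IsUnit r' := isUnit_iff_degree_eq_zero.2 ((degree_eq_iff_natDegree_eq (n := 0) hr0').2 (by omega))
    have ex : ∃ h, p * p' ∣ φ.comp h := by
      have e1 := exists_root_mod hφ hpi (dvd_of_eq (by omega))
      have e2 := exists_root_mod hφ hpi' (dvd_of_eq (by omega))
      by_cases hpp : p = p'
      · rw [← hpp]; exact exists_root_sq e1
      · exact exists_root_mul ((hpi.coprime_iff_not_dvd).2 fun hd' => hpp
          (eq_of_monic_of_associated hp hp' (hpi.associated_of_dvd hpi' hd'))) e1 e2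
    obtain ⟨t, ht⟩ := ex
    refine exists_commuting_root ⟨t, ?_⟩
    rw [hr, hr', ← mul_assoc]
    exact (IsUnit.mul_right_dvd hu).2 ht

end CfsgLib.KnownA.NormalCover.FieldStr
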