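import Cfsg.Agent.Lib.KnownA.NormalCover.SpEven
import Cfsg.Prelude.Def_G2

/-!
# The automorphism group of the split octonions in characteristic two is covered by two subgroups
-/

set_option autoImplicit false
set_option linter.unusedSectionVars false

namespace CfsgLib.KnownA.NormalCover.G2Even

open Matrix Cfsg.Lie

variable {F : Type*} [Field F] [CharP F 2]

local notation "O8" => (Fin 8 → F)

/-- The action on vectors. -/
def app (g : G2 F) (x : O8) : O8 := ((g : GL (Fin 8) F) : Matrix (Fin 8) (Fin 8) F) *ᵥ x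

theorem app_zornMul (g : G2 F) (x y : O8) : app g (zornMul x y) = zornMul (app g x) (app g y) := g.2 x y

theorem app_mul (g h : G2 F) (x : O8) : app (g * h) x = app g (app h x) := by simp [app]

theorem app_one (x : O8) : app (1 : G2 F) x = x := by simp [app]

theorem app_inv_app (g : G2 F) (x : O8) : app g⁻¹ (app g x) = x := by rw [← app_mul, inv_mul_cancel, app_one]

theorem app_app_inv (g : G2 F) (x : O8) : app g (app g⁻¹ x) = x := by rw [← app_mul, mul_inv_cancel, app_one]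

theorem app_add (g : G2 F) (x y : O8) : app g (x + y) = app g x + app g y := mulVec_add _ _ _

theorem app_smul (g : G2 F) (c : F) (x : O8) : app g (c • x) = c • app g x := mulVec_smul _ _ _

/-- The unit. -/
def one8 : O8 := ![1, 0, 0, 0, 0, 0, 0, 1]

/-- The trace. -/
def tr (x : O8) : F := x 0 + x 7

/-- The norm. -/
def nm (x : O8) : F := x 0 * x 7 + (x 1 * x 4 + x 2 * x 5 + x 3 * x 6)

/-- The polar form of the norm. -/
def pol (x y : O8) : F :=
  x 0 * y 7 + x 7 * y 0 + (x 1 * y 4 + x 2 * y 5 + x 3 * y 6) + (x 4 * y 1 + x 5 * y 2 + x 6 * y 3)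

theorem one_mul8 (x : O8) : zornMul one8 x = x := by
  funext i
  fin_cases i <;> simp [zornMul, zA, zB, dot3, cross3, one8]

theorem mul_one8 (x : O8) : zornMul x one8 = x := by
  funext i
  fin_cases i <;> simp [zornMul, zA, zB, dot3, cross3, one8]

theorem sq_eq (x : O8) : zornMul x x = tr x • x + nm x • one8 := by
  funext i
  fin_cases i <;> simp [zornMul, zA, zB, dot3, cross3, one8, tr, nm] <;> grind

theorem mul_add_mul (x y : O8) : zornMul x y + zornMul y x = tr x • y + tr y • x + pol x y • one8 := by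
  funext i
  fin_cases i <;> simp [zornMul, zA, zB, dot3, cross3, one8, tr, pol] <;> grind

theorem app_one8 (g : G2 F) : app g one8 = one8 := by
  have h : ∀ y, zornMul (app g one8) y = y := fun y => by
    rw [← app_app_inv g y, ← app_zornMul, one_mul8]
  exact (mul_one8 _).symm.trans (h one8)

theorem tr_one8 : tr (one8 : O8) = 0 := CharTwo.add_self_eq_zero 1

theorem app_trace_zero (g : G2 F) {v : O8} (hv : tr v = 0) : tr (app g v) = 0 := by
  by_contra hne
  have h : tr (app g v) • app g v + nm (app g v) • one8 = nm v • one8 := by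
    rw [← sq_eq, ← app_zornMul, sq_eq, hv, zero_smul, zero_add, app_smul, app_one8]
  have h2 : app g v = ((tr (app g v))⁻¹ * (nm v + nm (app g v))) • one8 := by
    rw [← smul_smul, add_smul, ← h]
    funext i
    simp
    grind
  refine hne ?_
  rw [h2]
  simp [tr, one8, CharTwo.add_self_eq_zero]

theorem app_trace_one (g : G2 F) {e : O8} (he : tr e = 1) : tr (app g e) = 1 ∧ nm (app g e) = nm e := by
  have h : tr (app g e) • app g e + nm (app g e) • one8 = (1 : F) • app g e + nm e • one8 := by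
    rw [← sq_eq, ← app_zornMul, sq_eq, he, app_add, app_smul, app_smul, app_one8]
  have hv : tr (app g e) ≠ 0 := fun h0 => by
    have := app_trace_zero g⁻¹ h0
    rw [app_inv_app, he] at this
    exact one_ne_zero this
  have h0 := congrFun h 0
  have h7 := congrFun h 7
  simp [one8] at h0 h7
  set y := app g e
  have ht : tr y * tr y = tr y := by
    have : tr y = y 0 + y 7 := rfl
    grind
  have h1 : tr y = 1 := mul_right_cancel₀ hv (ht.trans (one_mul _).symm)
  exact ⟨h1, by rw [h1, one_mul] at h0; exact add_left_cancel h0⟩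

theorem pol_app (g : G2 F) {e v : O8} (he : tr e = 1) (hv : tr v = 0) : pol (app g e) (app g v) = pol e v := by
  have h := congrArg (app g) (mul_add_mul e v)
  rw [app_add, app_add, app_add, app_zornMul, app_zornMul, mul_add_mul, app_smul, app_smul, app_smul, app_one8,
    he, hv, (app_trace_one g he).1, app_trace_zero g hv] at h
  have := congrFun (add_left_cancel h) 0
  simpa [one8] using this

/-- The stabiliser of the functional attached to `e` on the vectors of trace zero. -/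
def stab (e : O8) : Subgroup (G2 F) where
  carrier := {g | ∀ v, tr v = 0 → pol e (app g v) = pol e v}
  one_mem' v _ := by rw [app_one]
  mul_mem' {a b} ha hb v hv := by rw [app_mul, ha _ (app_trace_zero b hv), hb v hv]
  inv_mem' {a} ha v hv := by
    have := ha _ (app_trace_zero a⁻¹ hv)
    rwa [app_app_inv, eq_comm] at this

theorem conj_mem_stab {g h : G2 F} {e : O8} (he : tr e = 1) (hg : g ∈ stab e) :
    h * g * h⁻¹ ∈ stab (app h e) := fun v hv => by
  have hv' := app_trace_zero h⁻¹ hv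
  calc pol (app h e) (app (h * g * h⁻¹) v)
      = pol (app h e) (app h (app g (app h⁻¹ v))) := by rw [app_mul, app_mul]
    _ = pol e (app g (app h⁻¹ v)) := pol_app h he (app_trace_zero g hv')
    _ = pol e (app h⁻¹ v) := hg _ hv'
    _ = pol (app h e) (app h (app h⁻¹ v)) := (pol_app h he hv').symm
    _ = pol (app h e) v := by rw [app_app_inv]

/-! ### Automorphisms -/

/-- Some automorphism takes `x` to `y`. -/
def Reach (x y : O8) : Prop := ∃ h : G2 F, app h x = y

theorem Reach.trans {x y z : O8} (h : Reach x y) (h' : Reach y z) : Reach x z := by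
  obtain ⟨a, ha⟩ := h
  obtain ⟨b, hb⟩ := h'
  exact ⟨b * a, by rw [app_mul, ha, hb]⟩

theorem exists_auto (f f' : O8 → O8) (hadd : ∀ x y, f (x + y) = f x + f y) (hsmul : ∀ (c : F) x, f (c • x) = c • f x)
    (h1 : ∀ x, f' (f x) = x) (h2 : ∀ x, f (f' x) = x) (hm : ∀ x y, f (zornMul x y) = zornMul (f x) (f y)) :
    ∃ h : G2 F, ∀ x, app h x = f x := by
  let L : O8 →ₗ[F] O8 := { toFun := f, map_add' := hadd, map_smul' := hsmul }
  let E : O8 ≃ₗ[F] O8 := { L with invFun := f', left_inv := h1, right_inv := h2 }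
  let M : GL (Fin 8) F := ⟨LinearMap.toMatrix' E.toLinearMap, LinearMap.toMatrix' E.symm.toLinearMap,
    by rw [← LinearMap.toMatrix'_comp, E.comp_symm, LinearMap.toMatrix'_id],
    by rw [← LinearMap.toMatrix'_comp, E.symm_comp, LinearMap.toMatrix'_id]⟩
  have happ : ∀ x, (M : Matrix (Fin 8) (Fin 8) F) *ᵥ x = f x := fun x => LinearMap.toMatrix'_mulVec _ _
  refine ⟨⟨M, fun x y => ?_⟩, happ⟩
  simp only [Units.coeHom_apply, happ, hm]

theorem exists_phi (d : Fin 3 → F) : ∃ h : G2 F, ∀ x, app h x =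
    ![x 0 + (x 4 * d 0 + x 5 * d 1 + x 6 * d 2),
      x 1 + (x 0 + x 7 + (x 4 * d 0 + x 5 * d 1 + x 6 * d 2)) * d 0,
      x 2 + (x 0 + x 7 + (x 4 * d 0 + x 5 * d 1 + x 6 * d 2)) * d 1,
      x 3 + (x 0 + x 7 + (x 4 * d 0 + x 5 * d 1 + x 6 * d 2)) * d 2,
      x 4 + (x 2 * d 2 + x 3 * d 1), x 5 + (x 3 * d 0 + x 1 * d 2), x 6 + (x 1 * d 1 + x 2 * d 0),
      x 7 + (x 4 * d 0 + x 5 * d 1 + x 6 * d 2)] := by
  refine exists_auto _ (fun x => ![x 0 + (x 4 * d 0 + x 5 * d 1 + x 6 * d 2),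
      x 1 + (x 0 + x 7 + (x 4 * d 0 + x 5 * d 1 + x 6 * d 2)) * d 0,
      x 2 + (x 0 + x 7 + (x 4 * d 0 + x 5 * d 1 + x 6 * d 2)) * d 1,
      x 3 + (x 0 + x 7 + (x 4 * d 0 + x 5 * d 1 + x 6 * d 2)) * d 2,
      x 4 + (x 2 * d 2 + x 3 * d 1), x 5 + (x 3 * d 0 + x 1 * d 2), x 6 + (x 1 * d 1 + x 2 * d 0),
      x 7 + (x 4 * d 0 + x 5 * d 1 + x 6 * d 2)]) ?_ ?_ ?_ ?_ ?_
  · intro x y; funext i; fin_cases i <;> simp <;> ring
  · intro c x; funext i; fin_cases i <;> simp <;> ring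
  · intro x; funext i; fin_cases i <;> simp <;> grind
  · intro x; funext i; fin_cases i <;> simp <;> grind
  · intro x y
    funext i
    fin_cases i <;> simp [zornMul, zA, zB, dot3, cross3, CharTwo.sub_eq_add] <;> grind

theorem exists_flip : ∃ h : G2 F, ∀ x, app h x = ![x 7, x 4, x 5, x 6, x 1, x 2, x 3, x 0] := by
  refine exists_auto _ (fun x => ![x 7, x 4, x 5, x 6, x 1, x 2, x 3, x 0]) ?_ ?_ ?_ ?_ ?_
  · intro x y; funext i; fin_cases i <;> simp
  · intro c x; funext i; fin_cases i <;> simp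
  · intro x; funext i; fin_cases i <;> simp
  · intro x; funext i; fin_cases i <;> simp
  · intro x y
    funext i
    fin_cases i <;> simp [zornMul, zA, zB, dot3, cross3, CharTwo.sub_eq_add] <;> grind

theorem exists_shift3 : ∃ h : G2 F, ∀ x, app h x = ![x 0, x 2, x 3, x 1, x 5, x 6, x 4, x 7] := by
  refine exists_auto _ (fun x => ![x 0, x 3, x 1, x 2, x 6, x 4, x 5, x 7]) ?_ ?_ ?_ ?_ ?_
  · intro x y; funext i; fin_cases i <;> simp
  · intro c x; funext i; fin_cases i <;> simp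
  · intro x; funext i; fin_cases i <;> simp
  · intro x; funext i; fin_cases i <;> simp
  · intro x y
    funext i
    fin_cases i <;> simp [zornMul, zA, zB, dot3, cross3, CharTwo.sub_eq_add] <;> grind

theorem exists_swap12 : ∃ h : G2 F, ∀ x, app h x = ![x 0, x 1, x 3, x 2, x 4, x 6, x 5, x 7] := by
  refine exists_auto _ (fun x => ![x 0, x 1, x 3, x 2, x 4, x 6, x 5, x 7]) ?_ ?_ ?_ ?_ ?_
  · intro x y; funext i; fin_cases i <;> simp
  · intro c x; funext i; fin_cases i <;> simp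
  · intro x; funext i; fin_cases i <;> simp
  · intro x; funext i; fin_cases i <;> simp
  · intro x y
    funext i
    fin_cases i <;> simp [zornMul, zA, zB, dot3, cross3, CharTwo.sub_eq_add] <;> grind

/-- Shears fixing the first coordinate vector. -/
theorem exists_clear (r s : F) : ∃ h : G2 F, ∀ x, app h x =
    ![x 0, x 1, x 2 + r * x 1, x 3 + s * x 1, x 4 + (r * x 5 + s * x 6), x 5, x 6, x 7] := by
  refine exists_auto _ (fun x =>
    ![x 0, x 1, x 2 + r * x 1, x 3 + s * x 1, x 4 + (r * x 5 + s * x 6), x 5, x 6, x 7]) ?_ ?_ ?_ ?_ ?_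
  · intro x y; funext i; fin_cases i <;> simp <;> ring
  · intro c x; funext i; fin_cases i <;> simp <;> ring
  · intro x; funext i; fin_cases i <;> simp <;> grind
  · intro x; funext i; fin_cases i <;> simp <;> grind
  · intro x y
    funext i
    fin_cases i <;> simp [zornMul, zA, zB, dot3, cross3, CharTwo.sub_eq_add] <;> grind

theorem exists_shear23 (s : F) : ∃ h : G2 F, ∀ x, app h x =
    ![x 0, x 1, x 2 + s * x 3, x 3, x 4, x 5, x 6 + s * x 5, x 7] := by
  refine exists_auto _ (fun x => ![x 0, x 1, x 2 + s * x 3, x 3, x 4, x 5, x 6 + s * x 5, x 7]) ?_ ?_ ?_ ?_ ?_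
  · intro x y; funext i; fin_cases i <;> simp <;> ring
  · intro c x; funext i; fin_cases i <;> simp <;> ring
  · intro x; funext i; fin_cases i <;> simp <;> grind
  · intro x; funext i; fin_cases i <;> simp <;> grind
  · intro x y
    funext i
    fin_cases i <;> simp [zornMul, zA, zB, dot3, cross3, CharTwo.sub_eq_add] <;> grind

theorem exists_scale {r s : F} (hr : r ≠ 0) (hs : s ≠ 0) : ∃ h : G2 F, ∀ x, app h x =
    ![x 0, r * x 1, s * x 2, (r * s)⁻¹ * x 3, r⁻¹ * x 4, s⁻¹ * x 5, r * s * x 6, x 7] := by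
  refine exists_auto _ (fun x => ![x 0, r⁻¹ * x 1, s⁻¹ * x 2, r * s * x 3, r * x 4, s * x 5, (r * s)⁻¹ * x 6, x 7])
    ?_ ?_ ?_ ?_ ?_
  · intro x y; funext i; fin_cases i <;> simp <;> ring
  · intro c x; funext i; fin_cases i <;> simp <;> ring
  · intro x; funext i; fin_cases i <;> simp <;> field_simp
  · intro x; funext i; fin_cases i <;> simp <;> field_simp
  · intro x y
    funext i
    fin_cases i <;> simp [zornMul, zA, zB, dot3, cross3, CharTwo.sub_eq_add] <;> field_simp <;> ring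

/-- The chosen representative of norm `c`. -/
def rep (c : F) : O8 := ![0, 1, 0, 0, c, 1, 0, 1]

theorem reach_a_ne_zero {e : O8} (he : tr e = 1) :
    ∃ e', Reach e e' ∧ (e' 1 ≠ 0 ∨ e' 2 ≠ 0 ∨ e' 3 ≠ 0) := by
  by_cases ha : e 1 ≠ 0 ∨ e 2 ≠ 0 ∨ e 3 ≠ 0
  · exact ⟨e, ⟨1, app_one e⟩, ha⟩
  push Not at ha
  by_cases hb : e 4 = 0 ∧ e 5 = 0 ∧ e 6 = 0
  · obtain ⟨h, hh⟩ := exists_phi (F := F) ![1, 0, 0]
    refine ⟨_, ⟨h, hh e⟩, Or.inl ?_⟩
    simp [ha.1, hb.1, hb.2.1, hb.2.2, show e 0 + e 7 = 1 from he]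
  · obtain ⟨h, hh⟩ := exists_flip (F := F)
    refine ⟨_, ⟨h, hh e⟩, ?_⟩
    simp only [not_and_or] at hb
    simpa using hb

theorem reach_a_first {e : O8} (he : tr e = 1) : ∃ α b₀ b₁ b₂, Reach e ![α, 1, 0, 0, b₀, b₁, b₂, α + 1] := by
  obtain ⟨e', h1, hne⟩ := reach_a_ne_zero he
  obtain ⟨e'', h2, hne''⟩ : ∃ e'', Reach e e'' ∧ e'' 1 ≠ 0 := by
    obtain ⟨h, hh⟩ := exists_shift3 (F := F)
    rcases hne with hn | hn | hn
    · exact ⟨e', h1, hn⟩
    · exact ⟨_, h1.trans ⟨h, hh e'⟩, by simpa using hn⟩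
    · exact ⟨_, (h1.trans ⟨h, hh e'⟩).trans ⟨h, hh _⟩, by simpa using hn⟩
  obtain ⟨h, hh⟩ := exists_scale (F := F) (inv_ne_zero hne'') one_ne_zero
  obtain ⟨k, hk⟩ := exists_clear (app h e'' 2) (app h e'' 3)
  have h3 := (h2.trans ⟨h, rfl⟩).trans ⟨k, rfl⟩
  obtain ⟨u, hu⟩ := h3
  have ht := (app_trace_one u he).1
  rw [hu] at ht
  refine ⟨app k (app h e'') 0, app k (app h e'') 4, app k (app h e'') 5, app k (app h e'') 6, u, hu.trans ?_⟩
  have h1' : app h e'' 1 = 1 := by rw [hh]; simp [hne'']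
  funext i
  fin_cases i
  · rfl
  · simp [hk, h1']
  · simp [hk, h1', CharTwo.add_self_eq_zero]
  · simp [hk, h1', CharTwo.add_self_eq_zero]
  · rfl
  · rfl
  · rfl
  · change app k (app h e'') 7 = app k (app h e'') 0 + 1
    have ht' : app k (app h e'') 0 + app k (app h e'') 7 = 1 := ht
    grind

theorem reach_b_second {e : O8} (he : tr e = 1) : ∃ α b₀, Reach e ![α, 1, 0, 0, b₀, 1, 0, α + 1] := by
  obtain ⟨α, b₀, b₁, b₂, h⟩ := reach_a_first he
  obtain ⟨α', c₀, c₁, c₂, h', hc⟩ : ∃ α' c₀ c₁ c₂, Reach e ![α', 1, 0, 0, c₀, c₁, c₂, α' + 1] ∧ c₁ ≠ 0 := by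
    by_cases h1 : b₁ ≠ 0
    · exact ⟨α, b₀, b₁, b₂, h, h1⟩
    push Not at h1
    by_cases h2 : b₂ ≠ 0
    · obtain ⟨s, hs⟩ := exists_swap12 (F := F)
      exact ⟨α, b₀, b₂, b₁, h.trans ⟨s, by rw [hs]; simp⟩, h2⟩
    push Not at h2
    obtain ⟨s, hs⟩ := exists_phi (F := F) ![0, 0, 1]
    obtain ⟨k, hk⟩ := exists_clear (F := F) 0 1
    refine ⟨α, b₀, 1, 0, (h.trans ⟨s, hs _⟩).trans ⟨k, ?_⟩, one_ne_zero⟩
    rw [hk]
    funext i
    fin_cases i <;> simp [h1, h2] <;> grind
  obtain ⟨s, hs⟩ := exists_scale (F := F) one_ne_zero hc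
  obtain ⟨k, hk⟩ := exists_shear23 (F := F) (c₁ * c₂)
  refine ⟨α', c₀, (h'.trans ⟨s, hs _⟩).trans ⟨k, ?_⟩⟩
  rw [hk]
  funext i
  fin_cases i <;> simp [hc, CharTwo.add_self_eq_zero]

theorem reach_rep {e : O8} (he : tr e = 1) : Reach e (rep (nm e)) := by
  obtain ⟨α, b₀, h⟩ := reach_b_second he
  obtain ⟨s, hs⟩ := exists_phi (F := F) ![0, α, 0]
  obtain ⟨k, hk⟩ := exists_clear (F := F) ((1 + α) * α) 0
  obtain ⟨l, hl⟩ := exists_shear23 (F := F) α
  have h' : Reach e (rep (b₀ + (1 + α) * α)) := by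
    refine ((h.trans ⟨s, hs _⟩).trans ⟨k, hk _⟩).trans ⟨l, ?_⟩
    rw [hl]
    funext i
    fin_cases i <;> simp [rep] <;> grind
  obtain ⟨u, hu⟩ := h'
  have hn := (app_trace_one u he).2
  rw [hu, show nm (rep (b₀ + (1 + α) * α)) = b₀ + (1 + α) * α by simp [nm, rep]] at hn
  rw [← hn]
  exact ⟨u, hu⟩

theorem stab_rep_ne_top (c : F) : stab (rep c) ≠ ⊤ := by
  intro h
  have key : ∀ d : Fin 3 → F, d 0 * (1 + c * d 0 + d 1) = 0 := fun d => by
    obtain ⟨s, hs⟩ := exists_phi d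
    have := (h ▸ Subgroup.mem_top s : s ∈ stab (rep c)) ![0, 0, 0, 0, 1, 0, 0, 0] (by simp [tr])
    rw [hs] at this
    simp [pol, rep] at this
    grind
  have h1 := key ![1, 0, 0]
  have h2 := key ![1, 1, 0]
  simp at h1 h2
  grind

variable [Finite F]

theorem exists_fixed (g : G2 F) : ∃ e, tr e = 1 ∧ g ∈ stab e := by
  classical
  let L : O8 →ₗ[F] O8 := ((g : GL (Fin 8) F) : Matrix (Fin 8) (Fin 8) F).mulVecLin - LinearMap.id
  let T : Submodule F O8 :=
    LinearMap.ker ((LinearMap.proj (0 : Fin 8) : O8 →ₗ[F] F) + (LinearMap.proj (7 : Fin 8) : O8 →ₗ[F] F))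
  have hmemT : ∀ v, v ∈ T ↔ tr v = 0 := fun v => LinearMap.mem_ker
  have hnot : one8 ∉ T.map L := by
    rintro ⟨v, hv, hv'⟩
    have hv0 := (hmemT v).1 hv
    have e1 : app g v = v + one8 := by rw [← hv']; exact (add_sub_cancel v (app g v)).symm
    have h2 : zornMul (app g v) (app g v) = nm v • one8 := by
      rw [← app_zornMul, sq_eq, hv0, zero_smul, zero_add, app_smul, app_one8]
    have hn : nm (v + one8) = nm v + 1 := by
      have : v 0 + v 7 = 0 := hv0
      simp [nm, one8]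
      grind
    rw [e1, sq_eq, hn, show tr (v + one8) = 0 by
      have : v 0 + v 7 = 0 := hv0
      simp [tr, one8]; grind] at h2
    have := congrFun h2 0
    simp [one8] at this
  obtain ⟨f, hf1, hf2⟩ := Submodule.exists_dual_map_eq_bot_of_notMem hnot inferInstance
  let f' : O8 →ₗ[F] F := (f one8)⁻¹ • f
  have hf'1 : f' one8 = 1 := by simp [f', hf1]
  have hinv : ∀ v, tr v = 0 → f' (app g v) = f' v := fun v hv => by
    have h0 : f (L v) = 0 := by
      have : f (L v) ∈ (T.map L).map f := Submodule.mem_map_of_mem (Submodule.mem_map_of_mem ((hmemT v).2 hv))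
      rw [hf2] at this
      exact this
    simp only [L, map_sub, LinearMap.sub_apply, LinearMap.id_apply, mulVecLin_apply, sub_eq_zero] at h0
    simp [f', app, h0]
  let x : Fin 8 → F := fun i => f' (Pi.single i 1)
  have hdec : ∀ v : O8, f' v = ∑ i, v i * x i := fun v => by
    conv_lhs => rw [pi_eq_sum_univ' v]
    simp [x]
  have hx : x 0 + x 7 = 1 := by
    rw [← hf'1, hdec]
    simp [Fin.sum_univ_eight, one8]
  refine ⟨![0, x 4, x 5, x 6, x 1, x 2, x 3, 1], by simp [tr], fun v hv => ?_⟩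
  have hpol : ∀ w, tr w = 0 → pol ![0, x 4, x 5, x 6, x 1, x 2, x 3, 1] w = f' w := fun w hw => by
    have : w 0 + w 7 = 0 := hw
    rw [hdec]
    simp [pol, Fin.sum_univ_eight]
    grind
  rw [hpol _ (app_trace_zero g hv), hpol v hv, hinv v hv]

theorem exists_covers : ∃ H K : Subgroup (G2 F), H ≠ ⊤ ∧ K ≠ ⊤ ∧ Covers H K := by
  classical
  obtain ⟨c₁, hc₁⟩ : ∃ c₁, c₁ ∉ SpEven.asRange F := by
    by_contra! h
    have : SpEven.asRange F = ⊤ := (AddSubgroup.eq_top_iff' _).2 h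
    have h2 := SpEven.index_asRange (F := F)
    simp [this] at h2
  refine ⟨_, _, stab_rep_ne_top 0, stab_rep_ne_top c₁, fun g => ?_⟩
  obtain ⟨e, he, hge⟩ := exists_fixed g
  -- a multiple of the unit does not change the functional
  have key : ∀ x : F, g ∈ stab (e + x • one8) ∧ tr (e + x • one8) = 1 ∧ nm (e + x • one8) = nm e + (x ^ 2 + x) := by
    intro x
    have he' : e 0 + e 7 = 1 := he
    refine ⟨fun v hv => ?_, ?_, ?_⟩
    · have hgv : app g v 0 + app g v 7 = 0 := app_trace_zero g hv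
      have hv' : v 0 + v 7 = 0 := hv
      have := hge v hv
      simp [pol, one8] at this ⊢
      grind
    · simp [tr, one8]; grind
    · simp [nm, one8]; grind
  by_cases hn : nm e ∈ SpEven.asRange F
  · obtain ⟨x, hx⟩ := SpEven.mem_asRange.1 hn
    obtain ⟨h1, h2, h3⟩ := key x
    obtain ⟨h, hh⟩ := reach_rep h2
    refine ⟨h, Or.inl ?_⟩
    have := conj_mem_stab (h := h) h2 h1
    rwa [hh, h3, hx, CharTwo.add_self_eq_zero] at this
  · obtain ⟨x, hx⟩ : nm e + c₁ ∈ SpEven.asRange F :=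
      (AddSubgroup.add_mem_iff_of_index_two SpEven.index_asRange).2 (iff_of_false hn hc₁)
    obtain ⟨h1, h2, h3⟩ := key x
    obtain ⟨h, hh⟩ := reach_rep h2
    refine ⟨h, Or.inr ?_⟩
    have := conj_mem_stab (h := h) h2 h1
    have e3 : nm e + (x ^ 2 + x) = c₁ := by
      have hx' : x ^ 2 + x = nm e + c₁ := hx
      grind
    rwa [hh, h3, e3] at this

end CfsgLib.KnownA.NormalCover.G2Even

namespace CfsgLib.KnownA.NormalCover

theorem g2_even {F : Type*} [Field F] [Fintype F] (a : ℕ) (ha : 1 ≤ a) (hF : Fintype.card F = 2 ^ a) :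
    ∃ H K : Subgroup (Cfsg.Lie.G2 F), H ≠ ⊤ ∧ K ≠ ⊤ ∧
      ∀ g : Cfsg.Lie.G2 F, ∃ x : Cfsg.Lie.G2 F, x * g * x⁻¹ ∈ H ∨ x * g * x⁻¹ ∈ K := by
  have h2 : ringChar F = 2 := FiniteField.even_card_iff_char_two.2 (by
    rw [hF]; exact Nat.mod_eq_zero_of_dvd (dvd_pow_self 2 (by omega)))
  haveI : CharP F 2 := ringChar.of_eq h2
  exact G2Even.exists_covers

end CfsgLib.KnownA.NormalCover
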