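import Cfsg.Agent.Lib.Classical.HermMatrixTS
import Cfsg.Agent.Lib.KnownA.NormalCover.Common
import Cfsg.Agent.Lib.KnownA.NormalCover.FieldStr

/-!
# Invariant subspaces of unitary transformations
-/

set_option autoImplicit false
set_option linter.unusedSectionVars false

open Module Polynomial

namespace CfsgLib.KnownA.NormalCover.Herm

open CfsgLib.Classical

variable {F : Type*} [Field F] [Fintype F] {q : ℕ}

theorem exists_iterateFrobenius (hF : Fintype.card F = q ^ 2) (K : Type*) [Field K] [Algebra F K] :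
    ∃ f : K →+* K, ∀ x, f x = x ^ q := by
  obtain ⟨p, hc⟩ := CharP.exists F
  obtain ⟨n, hp, hn⟩ := FiniteField.card F p
  haveI := Fact.mk hp
  haveI := charP_of_injective_algebraMap (algebraMap F K).injective p
  obtain ⟨j, -, hj⟩ := (Nat.dvd_prime_pow hp).1 (⟨q, by rw [← hn, hF, sq]⟩ : q ∣ p ^ (n : ℕ))
  exact ⟨iterateFrobenius K p j, fun x => by rw [iterateFrobenius_def, hj]⟩

variable {σ : F →+* F}

/-- The conjugate-reciprocal of a polynomial. -/
noncomputable def conjRev (σ : F →+* F) (p : F[X]) : F[X] :=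
  ∑ i ∈ Finset.range (p.natDegree + 1), C (σ (p.coeff i)) * X ^ (p.natDegree - i)

theorem exists_pow_of_dvd_conjRev (hF : Fintype.card F = q ^ 2) (hσ : ∀ x, σ x = x ^ q) (hc : IsConjugation σ)
    {p : F[X]} (hp : Irreducible p) (hp0 : p.coeff 0 ≠ 0) (hdvd : p ∣ conjRev σ p) :
    ∃ m, Odd m ∧ (m = 1 ∨ m + 1 < 2 * p.natDegree) ∧ p.natDegree ∣ m ∧
      AdjoinRoot.root p ^ (q ^ m + 1) = 1 := by
  classical
  haveI := Fact.mk hp
  set K := AdjoinRoot p
  let P := AdjoinRoot.powerBasis hp.ne_zero
  haveI : FiniteDimensional F K := P.finite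
  haveI : Finite K := Module.finite_of_finite F
  set ξ : K := AdjoinRoot.root p
  have hfr : finrank F K = p.natDegree := by rw [P.finrank, AdjoinRoot.powerBasis_dim]
  have hξ : ξ ≠ 0 := fun h => by
    have h0 : aeval ξ p = 0 := by rw [AdjoinRoot.aeval_eq, AdjoinRoot.mk_self]
    rw [h] at h0
    rw [← coeff_zero_eq_aeval_zero', map_eq_zero] at h0
    exact hp0 h0
  have h1 : aeval ξ (conjRev σ p) = 0 := by
    obtain ⟨c, hc'⟩ := hdvd
    rw [hc', map_mul, AdjoinRoot.aeval_eq, AdjoinRoot.mk_self, zero_mul]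
  simp only [conjRev, map_sum, map_mul, aeval_C, map_pow, aeval_X] at h1
  have h2 : ∑ i ∈ Finset.range (p.natDegree + 1), algebraMap F K (σ (p.coeff i)) * ξ⁻¹ ^ i = 0 := by
    refine (mul_eq_zero.1 (?_ : ξ ^ p.natDegree * _ = 0)).resolve_left (pow_ne_zero _ hξ)
    rw [Finset.mul_sum, ← h1]
    refine Finset.sum_congr rfl fun i hi => ?_
    rw [inv_pow, mul_comm (algebraMap F K _), ← mul_assoc,
      show ξ ^ p.natDegree * (ξ ^ i)⁻¹ = ξ ^ (p.natDegree - i) by
        rw [pow_sub₀ _ hξ (by simp at hi; omega)], mul_comm]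
  obtain ⟨f, hf⟩ := exists_iterateFrobenius hF K
  have h3 : aeval ((ξ⁻¹) ^ q) p = 0 := by
    have h := congrArg f h2
    rw [map_sum, map_zero] at h
    rw [aeval_eq_sum_range, ← h]
    refine Finset.sum_congr rfl fun i _ => ?_
    rw [hf, mul_pow, ← map_pow, ← hσ, hc.invol, Algebra.smul_def, ← pow_mul, ← pow_mul, mul_comm q]
  -- the corresponding automorphism
  let φ : K →ₐ[F] K := AdjoinRoot.liftAlgHom p (Algebra.ofId F K) ((ξ⁻¹) ^ q) h3
  let e : K ≃ₐ[F] K := AlgEquiv.ofBijective φ φ.bijective
  have he : e ξ = (ξ⁻¹) ^ q := AdjoinRoot.liftAlgHom_root _ _ _ h3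
  obtain ⟨⟨k, hk⟩, hke⟩ := (FiniteField.bijective_frobeniusAlgEquivOfAlgebraic_pow F K).2 e
  have hpow : ∀ j x, (FiniteField.frobeniusAlgEquivOfAlgebraic F K ^ j) x = x ^ q ^ (2 * j) := fun j x => by
    rw [AlgEquiv.coe_pow, FiniteField.coe_frobeniusAlgEquivOfAlgebraic_iterate]
    show x ^ Fintype.card F ^ j = _
    rw [hF, ← pow_mul]
  have h4 : ξ ^ (q ^ (2 * k) + q) = 1 := by
    have hke' : FiniteField.frobeniusAlgEquivOfAlgebraic F K ^ k = e := hke
    rw [pow_add, ← hpow k ξ, hke', he, ← mul_pow, inv_mul_cancel₀ hξ, one_pow]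
  obtain ⟨m, hm, hmodd, hmle⟩ : ∃ m, ξ ^ (q ^ m + 1) = 1 ∧ Odd m ∧ (m = 1 ∨ m + 1 < 2 * p.natDegree) := by
    rcases Nat.eq_zero_or_pos k with rfl | hk0
    · exact ⟨1, by simpa [add_comm] using h4, odd_one, Or.inl rfl⟩
    · refine ⟨2 * k - 1, ?_, ⟨k - 1, by omega⟩, Or.inr (by rw [← hfr]; omega)⟩
      have he' : q ^ (2 * k) + q = (q ^ (2 * k - 1) + 1) * q := by
        conv_lhs => rw [show 2 * k = 2 * k - 1 + 1 by omega, pow_succ]
        ring
      rw [he', pow_mul, ← hf] at h4
      exact f.injective (by rw [h4, map_one])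
  have h5 : (FiniteField.frobeniusAlgEquivOfAlgebraic F K ^ m) ξ = ξ := by
    have hinv : ξ ^ q ^ m = ξ⁻¹ := eq_inv_of_mul_eq_one_left (by rw [← pow_succ]; exact hm)
    rw [hpow, two_mul, pow_add, pow_mul, hinv, inv_pow, hinv, inv_inv]
  have h6 : FiniteField.frobeniusAlgEquivOfAlgebraic F K ^ m = 1 := by
    refine AlgEquiv.coe_algHom_injective (AdjoinRoot.algHom_ext ?_)
    exact h5
  have h7 := orderOf_dvd_of_pow_eq_one h6
  rw [FiniteField.orderOf_frobeniusAlgEquivOfAlgebraic, hfr] at h7
  exact ⟨m, hmodd, hmle, h7, hm⟩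

theorem isCoprime_conjRev (hF : Fintype.card F = q ^ 2) (hσ : ∀ x, σ x = x ^ q) (hc : IsConjugation σ)
    {p : F[X]} (hp : Irreducible p) (heven : Even p.natDegree) : IsCoprime p (conjRev σ p) := by
  refine hp.coprime_iff_not_dvd.2 fun hdvd => ?_
  have hp0 : p.coeff 0 ≠ 0 := fun h0 => by
    have := natDegree_eq_of_degree_eq_some (n := 1) (degree_eq_one_of_irreducible_of_root hp
      (show p.IsRoot 0 by rw [IsRoot, ← coeff_zero_eq_eval_zero, h0]))
    rw [this] at heven
    exact (by decide : ¬ Even 1) heven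
  obtain ⟨m, hm, -, hdm, -⟩ := exists_pow_of_dvd_conjRev hF hσ hc hp hp0 hdvd
  exact Nat.not_even_iff_odd.2 (hm.of_dvd_nat hdm) heven

variable {V : Type*} [AddCommGroup V] [Module F V] {B : V →ₛₗ[σ] V →ₗ[F] F}

/-- The kernel of a factor prime to its conjugate-reciprocal is totally isotropic. -/
theorem ker_isotropic_of_coprime (hh : IsHermitian B) {g : Module.End F V} (hg : ∀ x y, B (g x) (g y) = B x y)
    {p : F[X]} (hcop : IsCoprime p (conjRev σ p)) {x y : V} (hx : aeval g p x = 0) (hy : aeval g p y = 0) :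
    B x y = 0 := by
  obtain ⟨a, b, hab⟩ := hcop
  have e : x = aeval g (conjRev σ p) (aeval g b x) := by
    have h := congrArg (fun r : F[X] => aeval g r x) hab
    simp only [map_add, map_mul, map_one, LinearMap.add_apply, Module.End.mul_apply, hx, map_zero, zero_add,
      Module.End.one_apply] at h
    rw [← Module.End.mul_apply, ← map_mul, mul_comm, map_mul, Module.End.mul_apply]
    exact h.symm
  have hgk : ∀ (k : ℕ) (u v : V), B ((g ^ k) u) ((g ^ k) v) = B u v := by
    intro k
    induction k with
    | zero => simp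
    | succ k ih => intro u v; rw [pow_succ', Module.End.mul_apply, Module.End.mul_apply, hg, ih]
  rw [e]
  generalize aeval g b x = z
  have h0 : B ((g ^ p.natDegree) z) (aeval g p y) = 0 := by rw [hy, map_zero]
  rw [← h0, aeval_eq_sum_range (p := p), conjRev]
  simp only [map_sum, map_mul, aeval_C, map_pow, aeval_X, LinearMap.sum_apply, LinearMap.smul_apply,
    Module.End.mul_apply, Module.algebraMap_end_apply, map_smulₛₗ, smul_eq_mul, hh.conj.invol, RingHom.id_apply]
  refine Finset.sum_congr rfl fun i hi => congrArg _ ?_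
  rw [← hgk i ((g ^ (p.natDegree - i)) z) y, show (g ^ i) ((g ^ (p.natDegree - i)) z) = (g ^ p.natDegree) z by
    rw [← Module.End.mul_apply, ← pow_add, Nat.add_sub_cancel' (by simp at hi; omega)]]

/-- The kernel of an irreducible factor of even degree is totally isotropic. -/
theorem ker_isotropic (hF : Fintype.card F = q ^ 2) (hσ : ∀ x, σ x = x ^ q) (hh : IsHermitian B)
    {g : Module.End F V} (hg : ∀ x y, B (g x) (g y) = B x y) {p : F[X]} (hp : Irreducible p)
    (heven : Even p.natDegree) {x y : V} (hx : aeval g p x = 0) (hy : aeval g p y = 0) : B x y = 0 :=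
  ker_isotropic_of_coprime hh hg (isCoprime_conjRev hF hσ hh.conj hp heven) hx hy

/-- An irreducible quadratic factor gives an invariant totally isotropic plane. -/
theorem exists_plane_of_quadratic (hF : Fintype.card F = q ^ 2) (hσ : ∀ x, σ x = x ^ q) (hh : IsHermitian B)
    {g : Module.End F V} (hg : ∀ x y, B (g x) (g y) = B x y) {p : F[X]} (hp : Irreducible p) (hm : p.Monic)
    (hd : p.natDegree = 2) {x : V} (hx0 : x ≠ 0) (hx : aeval g p x = 0) :
    ∃ W : Submodule F V, finrank F W = 2 ∧ (∀ u ∈ W, g u ∈ W) ∧ ∀ u ∈ W, ∀ v ∈ W, B u v = 0 := by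
  classical
  refine ⟨Submodule.span F (Set.range ![x, g x]), ?_, ?_, ?_⟩
  · rw [finrank_span_eq_card, Fintype.card_fin]
    refine LinearIndependent.pair_iff' hx0 |>.2 fun a ha => ?_
    have hev : aeval g p x = p.eval a • x :=
      Module.End.aeval_apply_of_hasEigenvector ⟨Module.End.mem_eigenspace_iff.2 ha.symm, hx0⟩
    rw [hx] at hev
    have hr : p.IsRoot a := (smul_eq_zero.1 hev.symm).resolve_right hx0
    have := natDegree_eq_of_degree_eq_some (n := 1) (degree_eq_one_of_irreducible_of_root hp hr)
    omega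
  · intro u hu
    induction hu using Submodule.span_induction with
    | mem u hu =>
      obtain ⟨i, rfl⟩ := hu
      fin_cases i
      · exact Submodule.subset_span ⟨1, rfl⟩
      · have e : g (g x) = (-p.coeff 1) • g x + (-p.coeff 0) • x := by
          have h := hx
          rw [aeval_eq_sum_range, hd, Finset.sum_range_succ, Finset.sum_range_succ, Finset.sum_range_one,
            show p.coeff 2 = 1 from hd ▸ hm] at h
          simp only [LinearMap.add_apply, LinearMap.smul_apply, pow_zero, pow_one, pow_two, Module.End.mul_apply,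
            Module.End.one_apply, one_smul] at h
          rw [neg_smul, neg_smul, ← sub_eq_zero, ← h]
          abel
        show g (g x) ∈ _
        rw [e]
        exact add_mem (Submodule.smul_mem _ _ (Submodule.subset_span ⟨1, rfl⟩))
          (Submodule.smul_mem _ _ (Submodule.subset_span ⟨0, rfl⟩))
    | zero => simp
    | add a b _ _ ha hb => rw [map_add]; exact add_mem ha hb
    | smul a b _ hb => rw [map_smul]; exact Submodule.smul_mem _ _ hb
  · have hker : Submodule.span F (Set.range ![x, g x]) ≤ LinearMap.ker (aeval g p) := by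
      rw [Submodule.span_le]
      rintro _ ⟨i, rfl⟩
      fin_cases i
      · exact hx
      · show aeval g p (g x) = 0
        rw [← Module.End.mul_apply, show aeval g p * g = g * aeval g p by
          simpa using ((Commute.all p (X : F[X])).map (aeval g)).eq,
          Module.End.mul_apply, hx, map_zero]
    exact fun u hu v hv => ker_isotropic hF hσ hh hg hp (by rw [hd]; exact even_two) (hker hu) (hker hv)

variable [FiniteDimensional F V]

/-- A transformation with no eigenvector of a four dimensional space. -/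
theorem exists_plane_of_no_eigen (hF : Fintype.card F = q ^ 2) (hσ : ∀ x, σ x = x ^ q) (hh : IsHermitian B)
    (hN : B.SeparatingRight) (hV : finrank F V = 4) {g : Module.End F V} (hg : ∀ x y, B (g x) (g y) = B x y)
    (h : ∀ (c : F) (v : V), g v = c • v → v = 0) :
    ∃ W : Submodule F V, finrank F W = 2 ∧ (∀ u ∈ W, g u ∈ W) ∧ ∀ u ∈ W, ∀ v ∈ W, B u v = 0 := by
  haveI : Nontrivial V := Module.nontrivial_of_finrank_pos (R := F) (by omega)
  have hnr := FieldStr.no_root_minpoly h
  have hle := FieldStr.natDegree_minpoly_le g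
  have hm := minpoly.monic (IsIntegral.of_finite F g)
  rw [hV] at hle
  obtain ⟨p, hp, hpi, r, hr⟩ := Polynomial.exists_monic_irreducible_factor _ (minpoly.not_isUnit F g)
  have hr0 : r ≠ 0 := fun e => hm.ne_zero (by rw [hr, e, mul_zero])
  have hp2 := FieldStr.two_le_natDegree hpi fun c hc => hnr c (hc.dvd (hr ▸ dvd_mul_right _ _))
  have hdeg : (minpoly F g).natDegree = p.natDegree + r.natDegree := by
    rw [hr, natDegree_mul hpi.ne_zero hr0]
  have hdvd : r.natDegree = 0 → p.natDegree ∣ 4 := fun h0 => by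
    have hu : IsUnit r := isUnit_iff_degree_eq_zero.2 ((degree_eq_iff_natDegree_eq (n := 0) hr0).2 h0)
    have hi : Irreducible (minpoly F g) := hr ▸ (irreducible_mul_isUnit hu).2 hpi
    have := FieldStr.natDegree_dvd hi
    rwa [hdeg, h0, add_zero, hV] at this
  obtain ⟨x, hx0, hx⟩ : ∃ x, x ≠ 0 ∧ aeval g p x = 0 := by
    by_contra hno
    push Not at hno
    have h0 : aeval g r = 0 := LinearMap.ext fun z => by
      by_contra hz
      refine hno _ hz ?_
      rw [← Module.End.mul_apply, ← map_mul, ← hr, minpoly.aeval, LinearMap.zero_apply]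
    have := natDegree_le_of_dvd (minpoly.dvd F g h0) hr0
    omega
  rcases Nat.lt_or_ge 2 p.natDegree with h3 | h3
  · exfalso
    have h4 : p.natDegree = 3 → False := fun h3 => by
      rcases Nat.eq_zero_or_pos r.natDegree with h0 | h0
      · have := hdvd h0; rw [h3] at this; exact absurd this (by decide)
      · obtain ⟨c, hc⟩ := exists_root_of_degree_eq_one
          ((degree_eq_iff_natDegree_eq (n := 1) hr0).2 (by omega))
        exact hnr c (hc.dvd (hr ▸ dvd_mul_left _ _))
    have hp4 : p.natDegree = 4 := by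
      rcases Nat.lt_or_ge p.natDegree 4 with hlt | hge
      · exact (h4 (by omega)).elim
      · omega
    have hpm : aeval g p = 0 := by
      have hu : IsUnit r := isUnit_iff_degree_eq_zero.2 ((degree_eq_iff_natDegree_eq (n := 0) hr0).2 (by omega))
      obtain ⟨c, hc⟩ := (IsUnit.mul_right_dvd hu).2 (dvd_refl p)
      rw [← hr] at hc
      rw [hc, map_mul, minpoly.aeval, zero_mul]
    obtain ⟨v, hv⟩ := exists_ne (0 : V)
    exact hv (hN v fun w => ker_isotropic hF hσ hh hg hpi (by rw [hp4]; decide) (by rw [hpm]; rfl) (by rw [hpm]; rfl))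
  · exact exists_plane_of_quadratic hF hσ hh hg hpi hp (by omega) hx0 hx

/-- An isometry of a four dimensional space fixes a non-isotropic line or a totally isotropic plane. -/
theorem exists_point_or_plane (hF : Fintype.card F = q ^ 2) (hσ : ∀ x, σ x = x ^ q) (hh : IsHermitian B)
    (hN : B.SeparatingRight) (hV : finrank F V = 4) {g : Module.End F V} (hg : ∀ x y, B (g x) (g y) = B x y) :
    (∃ (c : F) (v : V), B v v ≠ 0 ∧ g v = c • v) ∨
      ∃ W : Submodule F V, finrank F W = 2 ∧ (∀ u ∈ W, g u ∈ W) ∧ ∀ u ∈ W, ∀ v ∈ W, B u v = 0 := by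
  classical
  by_cases heig : ∀ (c : F) (v : V), g v = c • v → v = 0
  · exact Or.inr (exists_plane_of_no_eigen hF hσ hh hN hV hg heig)
  by_cases hniso : ∃ (c : F) (v : V), B v v ≠ 0 ∧ g v = c • v
  · exact Or.inl hniso
  right
  push Not at heig hniso
  obtain ⟨l, v, hlv, hv0⟩ := heig
  have hiso : ∀ (c : F) (w : V), g w = c • w → B w w = 0 := fun c w hw => by
    by_contra hne
    exact hniso c w hne hw
  have hgi : Function.Injective g := by
    rw [injective_iff_map_eq_zero]
    exact fun a ha => hN a fun b => by rw [← hg, ha, map_zero]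
  have hl0 : l ≠ 0 := fun e => hv0 (hgi (by rw [hlv, e, zero_smul, map_zero]))
  let W := LinearMap.ker (B v)
  have hinv : ∀ w ∈ W, g w ∈ W := fun w hw => by
    have hw' : B v w = 0 := hw
    have h : B (g v) (g w) = 0 := by rw [hg, hw']
    rw [hlv, map_smulₛₗ, LinearMap.smul_apply, smul_eq_mul, mul_eq_zero, map_eq_zero] at h
    exact h.resolve_left hl0
  have hvW : v ∈ W := hiso l v hlv
  have hWd : finrank F W = 3 := by
    have h1 := LinearMap.finrank_range_add_finrank_ker (B v)
    have hne : B v ≠ 0 := fun e => hv0 (hN v fun w => hh.isRefl _ _ (by rw [e, LinearMap.zero_apply]))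
    have h2 : LinearMap.range (B v) = ⊤ := by
      obtain ⟨w, hw⟩ : ∃ w, B v w ≠ 0 := by
        by_contra hall
        push Not at hall
        exact hne (LinearMap.ext hall)
      refine LinearMap.range_eq_top.2 fun a => ⟨(a / B v w) • w, ?_⟩
      rw [map_smul, smul_eq_mul, div_mul_cancel₀ _ hw]
    rw [h2, finrank_top, Module.finrank_self, hV] at h1
    show finrank F (LinearMap.ker (B v)) = 3
    omega
  by_cases hsec : ∃ (c : F) (u : V), u ∈ W ∧ g u = c • u ∧ ∀ a : F, a • v ≠ u
  · obtain ⟨c, u, huW, hu, hind⟩ := hsec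
    refine ⟨Submodule.span F (Set.range ![v, u]), ?_, ?_, ?_⟩
    · rw [finrank_span_eq_card ((LinearIndependent.pair_iff' hv0).2 hind), Fintype.card_fin]
    · intro w hw
      induction hw using Submodule.span_induction with
      | mem w hw =>
        obtain ⟨i, rfl⟩ := hw
        fin_cases i
        · show g v ∈ _
          rw [hlv]; exact Submodule.smul_mem _ _ (Submodule.subset_span ⟨0, rfl⟩)
        · show g u ∈ _
          rw [hu]; exact Submodule.smul_mem _ _ (Submodule.subset_span ⟨1, rfl⟩)
      | zero => simp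
      | add a b _ _ ha hb => rw [map_add]; exact add_mem ha hb
      | smul a b _ hb => rw [map_smul]; exact Submodule.smul_mem _ _ hb
    · intro a ha b hb
      rw [show (![v, u] : Fin 2 → V) = ![v, u] from rfl] at ha hb
      simp only [Matrix.range_cons, Matrix.range_empty, Set.union_empty, Set.singleton_union] at ha hb
      obtain ⟨a1, a2, rfl⟩ := Submodule.mem_span_pair.1 ha
      obtain ⟨b1, b2, rfl⟩ := Submodule.mem_span_pair.1 hb
      have h1 : B v u = 0 := huW
      simp [map_add, map_smul, map_smulₛₗ, h1, hh.isRefl _ _ h1, hiso l v hlv, hiso c u hu]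
  push Not at hsec
  let G : Module.End F W := g.restrict hinv
  have hGpow : ∀ (r : F[X]) (w : W), ((aeval G r w : W) : V) = aeval g r (w : V) := by
    intro r
    induction r using Polynomial.induction_on with
    | C a => intro w; simp
    | add a b ha hb => intro w; simp [ha w, hb w]
    | monomial k a ih =>
      intro w
      rw [pow_succ, ← mul_assoc, map_mul (aeval G) _ X, map_mul (aeval g) _ X, aeval_X, aeval_X, Module.End.mul_apply,
        Module.End.mul_apply, ih]
      rfl
  have hle := FieldStr.natDegree_minpoly_le G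
  rw [hWd] at hle
  have hmm := minpoly.monic (IsIntegral.of_finite F G)
  have hroot : (minpoly F G).IsRoot l := Module.End.hasEigenvalue_iff_isRoot.1
    (Module.End.hasEigenvalue_of_hasEigenvector (x := (⟨v, hvW⟩ : W))
      ⟨Module.End.mem_eigenspace_iff.2 (Subtype.ext hlv), fun e => hv0 (congrArg Subtype.val e)⟩)
  have honly : ∀ c, (minpoly F G).IsRoot c → c = l := by
    intro c hc
    obtain ⟨w, hw⟩ := (Module.End.hasEigenvalue_iff_isRoot.2 hc).exists_hasEigenvector
    have hw1 : g (w : V) = c • (w : V) := congrArg Subtype.val (Module.End.mem_eigenspace_iff.1 hw.1)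
    obtain ⟨a, ha⟩ := hsec c w w.2 hw1
    have hw0 : (w : V) ≠ 0 := fun e => hw.2 (Subtype.ext e)
    rw [← ha, map_smul, hlv, smul_comm, ← sub_eq_zero, ← sub_smul, smul_eq_zero, sub_eq_zero] at hw1
    exact (hw1.resolve_right (by rw [ha]; exact hw0)).symm
  obtain ⟨r, hr, hrl⟩ := exists_eq_pow_rootMultiplicity_mul_and_not_dvd (minpoly F G) hmm.ne_zero l
  set k := (minpoly F G).rootMultiplicity l
  have hk : 1 ≤ k := (rootMultiplicity_pos hmm.ne_zero).2 hroot
  have hr0 : r ≠ 0 := fun e => hrl (e ▸ dvd_zero _)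
  have hdeg : k + r.natDegree ≤ 3 := by
    rw [hr, natDegree_mul (pow_ne_zero _ (X_sub_C_ne_zero l)) hr0, natDegree_pow, natDegree_X_sub_C, mul_one] at hle
    exact hle
  by_cases hru : IsUnit r
  · -- the restriction is a single block
    have hN0 : (G - algebraMap F _ l) ^ 3 = 0 := by
      have h := minpoly.aeval F G
      rw [hr, map_mul, map_pow, map_sub, aeval_X, aeval_C] at h
      have h' := (hru.map (aeval G)).mul_left_eq_zero.1 h
      rw [← Nat.add_sub_cancel' (show k ≤ 3 by omega), pow_add, h', zero_mul]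
    set N := G - algebraMap F _ l with hNdef
    have hN2 : N ^ 2 ≠ 0 := by
      intro h2
      have hker : LinearMap.ker N ≤ Submodule.span F {(⟨v, hvW⟩ : W)} := fun w hw => by
        have hw' : G w - l • w = 0 := by simpa [hNdef] using hw
        obtain ⟨a, ha⟩ := hsec l w w.2 (congrArg Subtype.val (sub_eq_zero.1 hw'))
        exact Submodule.mem_span_singleton.2 ⟨a, Subtype.ext ha⟩
      have hk1 : finrank F (LinearMap.ker N) ≤ 1 :=
        (Submodule.finrank_mono hker).trans (finrank_span_singleton fun e => hv0 (congrArg Subtype.val e)).le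
      have hrk : LinearMap.range N ≤ LinearMap.ker N := by
        rintro _ ⟨w, rfl⟩
        show N (N w) = 0
        rw [← Module.End.mul_apply, ← pow_two, h2, LinearMap.zero_apply]
      have := LinearMap.finrank_range_add_finrank_ker N
      have := Submodule.finrank_mono hrk
      omega
    obtain ⟨x, hx⟩ : ∃ x, (N ^ 2) x ≠ 0 := by
      by_contra hall
      push Not at hall
      exact hN2 (LinearMap.ext hall)
    set w := N x
    have hu0 : N w ≠ 0 := by rwa [← Module.End.mul_apply, ← pow_two]
    have hNu : N (N w) = 0 := by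
      have := congrArg (fun f : Module.End F W => f x) hN0
      simpa [pow_succ, w] using this
    set u := N w
    have hgx : g (x : V) = l • (x : V) + (w : V) := by
      have : (w : V) = g (x : V) - l • (x : V) := by simp [w, hNdef]; rfl
      rw [this]; abel
    have hgw : g (w : V) = l • (w : V) + (u : V) := by
      have : (u : V) = g (w : V) - l • (w : V) := by simp [u, hNdef]; rfl
      rw [this]; abel
    have hgu : g (u : V) = l • (u : V) := by
      have : G u - l • u = 0 := by simpa [hNdef] using hNu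
      exact congrArg Subtype.val (sub_eq_zero.1 this)
    obtain ⟨a, ha⟩ := hsec l u u.2 hgu
    have huB : ∀ z ∈ W, B (u : V) z = 0 := fun z hz => by
      rw [← ha, map_smulₛₗ, LinearMap.smul_apply, show B v z = 0 from hz, smul_zero]
    have hBw : B (w : V) w = 0 := by
      by_contra hne
      have h1 := hg (w : V) (w : V)
      rw [hgw] at h1
      simp only [map_add, map_smul, map_smulₛₗ, LinearMap.add_apply, LinearMap.smul_apply, smul_eq_mul,
        huB _ w.2, huB _ u.2, hh.isRefl _ _ (huB _ w.2), RingHom.id_apply] at h1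
      have hl1 : σ l * l = 1 := mul_right_cancel₀ hne (by linear_combination h1)
      have h2 := hg (w : V) (x : V)
      rw [hgw, hgx] at h2
      simp only [map_add, map_smul, map_smulₛₗ, LinearMap.add_apply, LinearMap.smul_apply, smul_eq_mul,
        huB _ w.2, huB _ x.2, RingHom.id_apply] at h2
      have h3 : σ l * B (w : V) w = 0 := by linear_combination h2 - B (w : V) x * hl1
      exact hne ((mul_eq_zero.1 h3).resolve_left (by simpa using hl0))
    refine ⟨Submodule.span F {(w : V), (u : V)}, ?_, ?_, ?_⟩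
    · have hli : LinearIndependent F ![(w : V), (u : V)] := by
        refine (LinearIndependent.pair_iff' (fun e => hu0 ?_)).2 fun c hc => hu0 ?_
        · show N w = 0
          rw [show w = 0 from Subtype.ext e, map_zero]
        · have hc' : c • w = u := Subtype.ext hc
          have h := congrArg N hc'
          rw [map_smul, show N u = 0 from hNu] at h
          rcases smul_eq_zero.1 h with hc0 | h0
          · rw [hc0, zero_smul] at hc'
            exact hc'.symm
          · exact h0
      rw [← finrank_span_eq_card hli |>.trans (Fintype.card_fin 2), Matrix.range_cons, Matrix.range_cons,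
        Matrix.range_empty, Set.union_empty, Set.singleton_union]
    · intro z hz
      obtain ⟨b, c, rfl⟩ := Submodule.mem_span_pair.1 hz
      refine Submodule.mem_span_pair.2 ⟨b * l, b + c * l, ?_⟩
      rw [map_add, map_smul, map_smul, hgw, hgu]
      module
    · intro z hz z' hz'
      obtain ⟨b, c, rfl⟩ := Submodule.mem_span_pair.1 hz
      obtain ⟨b', c', rfl⟩ := Submodule.mem_span_pair.1 hz'
      simp [map_add, map_smul, map_smulₛₗ, huB _ w.2, huB _ u.2, hh.isRefl _ _ (huB _ w.2), hBw]
  · obtain ⟨p, hp, hpi, hpr⟩ := Polynomial.exists_monic_irreducible_factor r hru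
    have hpl : ∀ c, ¬ p.IsRoot c := fun c hc => by
      have := honly c (hc.dvd (hpr.trans (Dvd.intro_left _ hr.symm)))
      subst this
      exact hrl ((dvd_iff_isRoot.2 hc).trans hpr)
    have hp2 := FieldStr.two_le_natDegree hpi hpl
    have hpd := natDegree_le_of_dvd hpr hr0
    obtain ⟨y, hy0, hy⟩ : ∃ y : W, y ≠ 0 ∧ aeval G p y = 0 := by
      by_contra hno
      push Not at hno
      obtain ⟨s, hs⟩ := hpr
      have hs0 : s ≠ 0 := fun e => hr0 (by rw [hs, e, mul_zero])
      have h0 : aeval G ((X - C l) ^ k * s) = 0 := LinearMap.ext fun z => by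
        by_contra hz
        refine hno _ hz ?_
        rw [← Module.End.mul_apply, ← map_mul, show p * ((X - C l) ^ k * s) = minpoly F G by
          rw [hr, hs]; ring, minpoly.aeval, LinearMap.zero_apply]
      have h1 := natDegree_le_of_dvd (minpoly.dvd F G h0) (mul_ne_zero (pow_ne_zero _ (X_sub_C_ne_zero l)) hs0)
      rw [hr, hs, natDegree_mul (pow_ne_zero _ (X_sub_C_ne_zero l)) hs0,
        natDegree_mul (pow_ne_zero _ (X_sub_C_ne_zero l)) (mul_ne_zero hpi.ne_zero hs0),
        natDegree_mul hpi.ne_zero hs0] at h1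
      omega
    exact exists_plane_of_quadratic hF hσ hh hg hpi hp (by omega) (x := (y : V))
      (fun e => hy0 (Subtype.ext e)) (by rw [← hGpow, hy]; rfl)

end CfsgLib.KnownA.NormalCover.Herm
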