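import Cfsg.Agent.Lib.KnownA.NormalCover.Common
import Cfsg.Agent.Lib.KnownA.NormalCover.FieldStr

/-!
# Normal coverings of the special linear groups of dimension at most four
-/

set_option autoImplicit false
set_option linter.unusedSectionVars false

open Module Matrix
open scoped MatrixGroups

namespace CfsgLib.KnownA.NormalCover.PSL

variable {F : Type*} [Field F] {k : ℕ}

theorem vmul (A B : SL(k + 2, F)) : (A * B).1 = A.1 * B.1 := rfl

theorem vone : (1 : SL(k + 2, F)).1 = 1 := rfl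

/-- The stabiliser of the first coordinate line. -/
def lineStab (F : Type*) [Field F] (k : ℕ) : Subgroup (SL(k + 2, F)) where
  carrier := {A | ∃ c : F, c ≠ 0 ∧ A.1 *ᵥ Pi.single 0 1 = c • Pi.single 0 1}
  one_mem' := ⟨1, one_ne_zero, by rw [vone, one_mulVec, one_smul]⟩
  mul_mem' {A B} := by
    rintro ⟨a, ha, hA⟩ ⟨b, hb, hB⟩
    refine ⟨a * b, mul_ne_zero ha hb, ?_⟩
    rw [vmul, ← mulVec_mulVec, hB, mulVec_smul, hA, smul_smul, mul_comm b a]
  inv_mem' {A} := by
    rintro ⟨a, ha, hA⟩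
    refine ⟨a⁻¹, inv_ne_zero ha, ?_⟩
    calc (A⁻¹).1 *ᵥ Pi.single 0 1 = (A⁻¹).1 *ᵥ (a⁻¹ • (A.1 *ᵥ Pi.single 0 1)) := by
          rw [hA, smul_smul, inv_mul_cancel₀ ha, one_smul]
      _ = _ := by
          rw [mulVec_smul, mulVec_mulVec, ← vmul, inv_mul_cancel,
            vone, one_mulVec]

/-- The centraliser of a matrix. -/
def matCentralizer (M : Matrix (Fin (k + 2)) (Fin (k + 2)) F) : Subgroup (SL(k + 2, F)) where
  carrier := {A | A.1 * M = M * A.1}
  one_mem' := by show (1 : SL(k + 2, F)).1 * M = _; rw [vone, one_mul]; exact (mul_one M).symm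
  mul_mem' {A B} (hA : A.1 * M = M * A.1) (hB : B.1 * M = M * B.1) := by
    show (A * B).1 * M = M * (A * B).1
    rw [vmul, mul_assoc, hB, ← mul_assoc, hA, mul_assoc]
  inv_mem' {A} (hA : A.1 * M = M * A.1) := by
    show (A⁻¹).1 * M = M * (A⁻¹).1
    calc (A⁻¹).1 * M = (A⁻¹).1 * (M * A.1) * (A⁻¹).1 := by
          rw [mul_assoc _ (M * A.1), mul_assoc M, ← vmul A, mul_inv_cancel,
            vone, mul_one]
      _ = M * (A⁻¹).1 := by
          rw [← hA, ← mul_assoc, ← vmul, inv_mul_cancel, vone, one_mul]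

theorem exists_to_first {v : Fin (k + 2) → F} (hv : v ≠ 0) :
    ∃ (x : SL(k + 2, F)) (c : F), c ≠ 0 ∧ x.1 *ᵥ v = c • Pi.single 0 1 := by
  obtain ⟨i, hi⟩ := Function.ne_iff.1 hv
  obtain ⟨R, hR⟩ : ∃ R : SL(k + 2, F), (R.1 *ᵥ v) 0 ≠ 0 := by
    by_cases h0 : v 0 = 0
    · have h0i : (0 : Fin (k + 2)) ≠ i := fun e => hi (by rw [← e]; exact h0)
      refine ⟨⟨transvection 0 i 1, det_transvection_of_ne 0 i h0i 1⟩, ?_⟩
      simp only [transvection, add_mulVec, one_mulVec, Pi.add_apply, h0, zero_add]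
      rw [single_mulVec]
      simpa using hi
    · exact ⟨1, by simpa using h0⟩
  set w := R.1 *ᵥ v
  let c := w 0
  let P : SL(k + 2, F) := ⟨(1 : Matrix (Fin (k + 2)) (Fin (k + 2)) F).updateCol 0 (c⁻¹ • w), by
    rw [← cramer_apply, cramer_one]
    simp [c, inv_mul_cancel₀ hR]⟩
  refine ⟨P⁻¹ * R, c, hR, ?_⟩
  rw [vmul, ← mulVec_mulVec]
  show (P⁻¹).1 *ᵥ w = _
  have hP : P.1 *ᵥ (c • Pi.single 0 1) = w := by
    rw [mulVec_smul, mulVec_single_one]
    funext j
    simp [P, Matrix.updateCol, Matrix.col]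
    show c * (c⁻¹ * w j) = w j
    rw [← mul_assoc, mul_inv_cancel₀ hR, one_mul]
  conv_lhs => rw [← hP]
  rw [mulVec_mulVec, ← vmul, inv_mul_cancel, vone, one_mulVec]

theorem scalar_of_mem_center {z : SL(k + 2, F)} (hz : z ∈ Subgroup.center (SL(k + 2, F))) :
    ∃ r : F, r ≠ 0 ∧ z.1 = r • 1 := by
  obtain ⟨r, hr, h⟩ := Matrix.SpecialLinearGroup.mem_center_iff.1 hz
  refine ⟨r, fun e => by simp [e] at hr, ?_⟩
  rw [← h, smul_one_eq_diagonal]
  rfl

theorem center_le_lineStab : Subgroup.center (SL(k + 2, F)) ≤ lineStab F k := fun z hz => by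
  obtain ⟨r, hr, h⟩ := scalar_of_mem_center hz
  exact ⟨r, hr, by rw [h, smul_mulVec, one_mulVec]⟩

theorem center_le_matCentralizer (M : Matrix (Fin (k + 2)) (Fin (k + 2)) F) :
    Subgroup.center (SL(k + 2, F)) ≤ matCentralizer M := fun z hz => by
  obtain ⟨r, -, h⟩ := scalar_of_mem_center hz
  show z.1 * M = M * z.1
  rw [h, smul_mul_assoc, one_mul, mul_smul_comm, mul_one]

theorem lineStab_ne_top : lineStab F k ≠ ⊤ := fun h => by
  obtain ⟨c, -, hc⟩ := (h ▸ Subgroup.mem_top _ :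
    (⟨transvection 1 0 1, det_transvection_of_ne 1 0 (by simp) 1⟩ : SL(k + 2, F)) ∈ lineStab F k)
  have := congrFun hc 1
  simp [transvection, Matrix.one_apply] at this

theorem matCentralizer_ne_top {M : Matrix (Fin (k + 2)) (Fin (k + 2)) F} (hM : ∀ c : F, M ≠ scalar _ c) :
    matCentralizer M ≠ ⊤ := fun h => by
  obtain ⟨c, hc⟩ := Matrix.mem_range_scalar_of_commute_transvectionStruct (M := M) fun t =>
    (by
      let T : SL(k + 2, F) := ⟨t.toMatrix, t.det⟩
      have hT : T ∈ matCentralizer M := h ▸ Subgroup.mem_top T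
      exact hT)
  exact hM c hc.symm

theorem exists_covers [Finite F] (r : ℕ) [NeZero r] (hr : 2 ≤ r) (hdvd : r ∣ k + 2)
    (hcomm : ∀ (φ : Polynomial F) (g : Module.End F (Fin (k + 2) → F)), Irreducible φ → φ.natDegree = r →
      (∀ (c : F) (v : Fin (k + 2) → F), g v = c • v → v = 0) →
      ∃ J : Module.End F (Fin (k + 2) → F), Commute g J ∧ Polynomial.aeval J φ = 0) :
    ∃ H K : Subgroup (Matrix.ProjectiveSpecialLinearGroup (Fin (k + 2)) F), H ≠ ⊤ ∧ K ≠ ⊤ ∧
      ∀ g : Matrix.ProjectiveSpecialLinearGroup (Fin (k + 2)) F,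
        ∃ x, x * g * x⁻¹ ∈ H ∨ x * g * x⁻¹ ∈ K := by
  classical
  obtain ⟨φ, -, hφ, hd⟩ := FieldStr.exists_irreducible (F := F) r
  obtain ⟨J₀, hJ₀⟩ := FieldStr.exists_root_struct (V := Fin (k + 2) → F) r (by simpa using hdvd) hφ hd
  let M₀ := LinearMap.toMatrix' J₀
  have hns : ∀ c : F, M₀ ≠ scalar _ c := by
    intro c hc
    have e : J₀ = algebraMap F (Module.End F (Fin (k + 2) → F)) c := by
      apply LinearMap.toMatrix'.injective
      show M₀ = _
      rw [hc]
      ext i j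
      simp [LinearMap.toMatrix'_apply, Matrix.diagonal_apply, Pi.single_apply, eq_comm]
    rw [e, Polynomial.aeval_algebraMap_apply, FaithfulSMul.algebraMap_eq_zero_iff, Polynomial.coe_aeval_eq_eval] at hJ₀
    have h1 : φ.natDegree = 1 := Polynomial.natDegree_eq_of_degree_eq_some (Polynomial.degree_eq_one_of_irreducible_of_root hφ hJ₀)
    omega
  refine Covers.quotient (H := lineStab F k) (K := matCentralizer M₀) ?_ center_le_lineStab lineStab_ne_top
    (center_le_matCentralizer _) (matCentralizer_ne_top hns)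
  intro g
  by_cases heig : ∃ (c : F) (v : Fin (k + 2) → F), v ≠ 0 ∧ g.1 *ᵥ v = c • v
  · obtain ⟨c, v, hv, hgv⟩ := heig
    have hc : c ≠ 0 := fun e => hv <| by
      have := congrArg ((g⁻¹).1 *ᵥ ·) hgv
      simpa only [mulVec_mulVec, ← vmul, inv_mul_cancel, vone,
        one_mulVec, e, zero_smul, mulVec_zero] using this
    obtain ⟨x, a, ha, hx⟩ := exists_to_first hv
    refine ⟨x, Or.inl ⟨c, hc, ?_⟩⟩
    have hx' : (x⁻¹).1 *ᵥ Pi.single 0 1 = a⁻¹ • v := by
      have := congrArg ((x⁻¹).1 *ᵥ ·) hx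
      simp only [mulVec_mulVec, ← vmul, inv_mul_cancel, vone,
        one_mulVec, mulVec_smul] at this
      rw [this, smul_smul, inv_mul_cancel₀ ha, one_smul]
    rw [vmul, vmul, ← mulVec_mulVec, ← mulVec_mulVec, hx', mulVec_smul,
      hgv, mulVec_smul, mulVec_smul, hx, smul_smul, smul_smul]
    congr 1
    field_simp
  · push Not at heig
    obtain ⟨J, hgJ, hJ⟩ := hcomm φ (Matrix.toLin' g.1) hφ hd fun c v h => by
      by_contra hv
      exact heig c v hv (by simpa using h)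
    obtain ⟨e, he, hcon⟩ := FieldStr.exists_conj hφ (by simp) hJ hJ₀ (one_ne_zero (α := F))
    let x : SL(k + 2, F) := ⟨LinearMap.toMatrix' e.toLinearMap, by rw [LinearMap.det_toMatrix', he]⟩
    refine ⟨x, Or.inr ?_⟩
    let MJ := LinearMap.toMatrix' J
    have h1 : x.1 * MJ = M₀ * x.1 := by
      show LinearMap.toMatrix' e.toLinearMap * LinearMap.toMatrix' J =
        LinearMap.toMatrix' J₀ * LinearMap.toMatrix' e.toLinearMap
      rw [← LinearMap.toMatrix'_comp, ← LinearMap.toMatrix'_comp]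
      exact congrArg _ (LinearMap.ext hcon)
    have h2 : g.1 * MJ = MJ * g.1 := by
      have := congrArg LinearMap.toMatrix' hgJ.eq
      rwa [LinearMap.toMatrix'_mul, LinearMap.toMatrix'_mul, LinearMap.toMatrix'_toLin'] at this
    have h3 : (x⁻¹).1 * M₀ = MJ * (x⁻¹).1 := by
      calc (x⁻¹).1 * M₀ = (x⁻¹).1 * (M₀ * x.1) * (x⁻¹).1 := by
            rw [mul_assoc _ (M₀ * x.1), mul_assoc M₀, ← vmul x, mul_inv_cancel,
              vone, mul_one]
        _ = MJ * (x⁻¹).1 := by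
            rw [← h1, ← mul_assoc, ← vmul, inv_mul_cancel, vone, one_mul]
    show (x * g * x⁻¹).1 * M₀ = M₀ * (x * g * x⁻¹).1
    simp only [vmul, mul_assoc]
    rw [h3, ← mul_assoc g.1, h2, mul_assoc MJ, ← mul_assoc x.1, h1, mul_assoc M₀]

end CfsgLib.KnownA.NormalCover.PSL

namespace CfsgLib.KnownA.NormalCover

theorem psl_two {F : Type*} [Field F] [Fintype F] :
    ∃ H K : Subgroup (Matrix.ProjectiveSpecialLinearGroup (Fin 2) F), H ≠ ⊤ ∧ K ≠ ⊤ ∧
      ∀ g : Matrix.ProjectiveSpecialLinearGroup (Fin 2) F, ∃ x, x * g * x⁻¹ ∈ H ∨ x * g * x⁻¹ ∈ K :=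
  PSL.exists_covers (k := 0) 2 le_rfl dvd_rfl fun φ g hφ hd h => by
    haveI : Nontrivial (Fin 2 → F) := inferInstance
    have hnr := FieldStr.no_root_minpoly h
    have hle := FieldStr.natDegree_minpoly_le g
    simp only [Module.finrank_fin_fun] at hle
    have hi : Irreducible (minpoly F g) := by
      obtain ⟨p, -, hpi, r, hr⟩ := Polynomial.exists_monic_irreducible_factor (minpoly F g) (minpoly.not_isUnit F g)
      have hm0 := (minpoly.monic (IsIntegral.of_finite F g)).ne_zero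
      have hr0 : r ≠ 0 := fun e => hm0 (by rw [hr, e, mul_zero])
      have := FieldStr.two_le_natDegree hpi fun c hc => hnr c (hc.dvd (hr ▸ dvd_mul_right _ _))
      rw [hr, Polynomial.natDegree_mul hpi.ne_zero hr0] at hle
      have hu : IsUnit r := Polynomial.isUnit_iff_degree_eq_zero.2
        ((Polynomial.degree_eq_iff_natDegree_eq (n := 0) hr0).2 (by omega))
      exact hr ▸ (irreducible_mul_isUnit hu).2 hpi
    have h2 := FieldStr.two_le_natDegree hi hnr
    exact FieldStr.exists_commuting_root (FieldStr.exists_root_mod hφ hi (by omega : φ.natDegree = _).dvd)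

theorem psl_three {F : Type*} [Field F] [Fintype F] :
    ∃ H K : Subgroup (Matrix.ProjectiveSpecialLinearGroup (Fin 3) F), H ≠ ⊤ ∧ K ≠ ⊤ ∧
      ∀ g : Matrix.ProjectiveSpecialLinearGroup (Fin 3) F, ∃ x, x * g * x⁻¹ ∈ H ∨ x * g * x⁻¹ ∈ K :=
  PSL.exists_covers (k := 1) 3 (by omega) dvd_rfl fun _ _ hφ hd h =>
    FieldStr.exists_commuting_three (by simp) h hφ hd

theorem psl_four {F : Type*} [Field F] [Fintype F] :
    ∃ H K : Subgroup (Matrix.ProjectiveSpecialLinearGroup (Fin 4) F), H ≠ ⊤ ∧ K ≠ ⊤ ∧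
      ∀ g : Matrix.ProjectiveSpecialLinearGroup (Fin 4) F, ∃ x, x * g * x⁻¹ ∈ H ∨ x * g * x⁻¹ ∈ K :=
  PSL.exists_covers (k := 2) 2 le_rfl ⟨2, rfl⟩ fun _ _ hφ hd h =>
    FieldStr.exists_commuting_four (by simp) h hφ hd

end CfsgLib.KnownA.NormalCover
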