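import Cfsg.Agent.Lib.KnownA.NormalCover.PSU4
import Cfsg.Agent.Lib.KnownA.NormalCover.Cubic
import Cfsg.Agent.Lib.KnownC.GUConj

/-!
# A normal covering of the three dimensional unitary groups in characteristic three
-/

set_option autoImplicit false
set_option linter.unusedSectionVars false

open Module Matrix Polynomial

namespace CfsgLib.KnownA.NormalCover.PSU3

open CfsgLib.Classical

variable {F : Type*} [Field F] [Fintype F] {q : ℕ} {σ : F →+* F}

/-- The linear map of an element. -/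
noncomputable def L (F : Type*) [Field F] (q : ℕ) : Cfsg.SU 3 F q →* Module.End F (Fin 3 → F) where
  toFun g := Matrix.toLin' (g.1 : Matrix (Fin 3) (Fin 3) F)
  map_one' := Matrix.toLin'_one
  map_mul' a b := Matrix.toLin'_mul _ _

theorem L_isometry (hσ : ∀ x, σ x = x ^ q) (g : Cfsg.SU 3 F q) (x y : Fin 3 → F) :
    stdHerm σ 3 (L F q g x) (L F q g y) = stdHerm σ 3 x y := (suHom hσ g).2 x y

theorem L_det (g : Cfsg.SU 3 F q) : LinearMap.det (L F q g) = 1 :=
  (LinearMap.det_toLin' _).trans g.1.2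

theorem L_injective : Function.Injective (L F q) := fun a b h =>
  Subtype.ext (Subtype.ext (Matrix.toLin'.injective h))

/-- Elements similar under the general linear group are conjugate. -/
theorem isConj_of_similar (hF : Fintype.card F = q ^ 2) (h3 : 3 ∣ q) {g h : Cfsg.SU 3 F q}
    (e : (Fin 3 → F) ≃ₗ[F] (Fin 3 → F)) (he : ∀ v, e (L F q g v) = L F q h (e v)) :
    ∃ x : Cfsg.SU 3 F q, x * g * x⁻¹ = h := by
  obtain ⟨σ, hσ, hc⟩ := exists_frob hF
  have hconj : IsConj (suToGU 3 F q g : GL (Fin 3) F) (suToGU 3 F q h : GL (Fin 3) F) := by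
    refine isConj_iff.2 ⟨linToGL e, ?_⟩
    rw [mul_inv_eq_iff_eq_mul]
    refine Units.ext (Matrix.toLin'.injective (LinearMap.ext fun v => ?_))
    rw [Units.val_mul, Units.val_mul, Matrix.toLin'_apply, Matrix.toLin'_apply, ← Matrix.mulVec_mulVec,
      ← Matrix.mulVec_mulVec, linToGL_mulVec, linToGL_mulVec]
    exact he v
  obtain ⟨x, hx⟩ := isConj_iff.1 ((KnownC.GUConj.isConj_iff_linear hF _ _).2 hconj)
  set X : Matrix (Fin 3) (Fin 3) F := (x.1 : Matrix (Fin 3) (Fin 3) F)
  have hn : X.det * σ X.det = 1 := GU_det_norm hσ x.2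
  obtain ⟨j, rfl⟩ := h3
  set μ := X.det ^ j
  have hμ : μ * σ μ = 1 := by rw [map_pow, ← mul_pow, hn, one_pow]
  have hμd : μ ^ 3 * X.det = 1 := by
    rw [← pow_mul, mul_comm j 3, ← hσ, mul_comm]
    exact hn
  let y : Matrix.SpecialLinearGroup (Fin 3) F := ⟨μ • X, by rw [det_smul, Fintype.card_fin, hμd]⟩
  have hy : y ∈ Cfsg.SU 3 F (3 * j) := by
    intro u v
    show Cfsg.hermForm 3 F (3 * j) ((μ • X) *ᵥ u) ((μ • X) *ᵥ v) = _
    rw [hermForm_eq_stdHerm hσ, hermForm_eq_stdHerm hσ, smul_mulVec, smul_mulVec, map_smul, map_smulₛₗ,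
      LinearMap.smul_apply, smul_eq_mul, smul_eq_mul, ← mul_assoc, hμ, one_mul]
    exact (mem_GU_iff hσ).1 x.2 v u
  refine ⟨⟨y, hy⟩, ?_⟩
  rw [mul_inv_eq_iff_eq_mul]
  refine Subtype.ext (Subtype.ext ?_)
  show (μ • X) * (g.1 : Matrix (Fin 3) (Fin 3) F) = (h.1 : Matrix (Fin 3) (Fin 3) F) * (μ • X)
  rw [mul_inv_eq_iff_eq_mul] at hx
  have hx' : X * (g.1 : Matrix (Fin 3) (Fin 3) F) = (h.1 : Matrix (Fin 3) (Fin 3) F) * X :=
    congrArg (fun u : Cfsg.GU 3 F (3 * j) => (u.1 : Matrix (Fin 3) (Fin 3) F)) hx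
  rw [Matrix.smul_mul, Matrix.mul_smul, hx']

section Field

variable (E : Type*) [Field E] [Algebra F E] [Finite E]

theorem pow_card_pow_eq (k : ℕ) (hF : Fintype.card F = q ^ 2) (x : E) :
    (FiniteField.frobeniusAlgEquivOfAlgebraic F E ^ k) x = x ^ q ^ (2 * k) := by
  rw [AlgEquiv.coe_pow, FiniteField.coe_frobeniusAlgEquivOfAlgebraic_iterate]
  show x ^ Fintype.card F ^ k = _
  rw [hF, ← pow_mul]

theorem aeval_pow_frob (k : ℕ) (hF : Fintype.card F = q ^ 2) (x : E) (r : F[X]) :
    aeval (x ^ q ^ (2 * k)) r = (aeval x r) ^ q ^ (2 * k) := by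
  rw [← pow_card_pow_eq E k hF, ← pow_card_pow_eq E k hF, aeval_algHom_apply]

theorem mem_base_of_fixed {x : E} (h : x ^ Fintype.card F = x) : ∃ c : F, algebraMap F E c = x := by
  haveI : FiniteDimensional F E := Module.Finite.of_finite
  refine (IsGalois.mem_range_algebraMap_iff_fixed x).2 fun f => ?_
  obtain ⟨⟨i, hi⟩, rfl⟩ := (FiniteField.bijective_frobeniusAlgEquivOfAlgebraic_pow F E).2 f
  show (FiniteField.frobeniusAlgEquivOfAlgebraic F E ^ i) x = x
  rw [AlgEquiv.coe_pow]
  exact Function.iterate_fixed h i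

end Field

/-- A model of the field of order `q ^ 6` inside the group. -/
theorem exists_model (hF : Fintype.card F = q ^ 2) {N : ℕ} (hN : N + q = q ^ 2 + 1) (hq : 3 ≤ q) :
    ∃ (E : Type) (_ : Field E) (_ : Algebra F E) (_ : Finite E) (ξ : E) (g : Cfsg.SU 3 F q),
      finrank F E = 3 ∧ orderOf ξ = N ∧ (minpoly F ξ).natDegree = 3 ∧ Irreducible (minpoly F ξ) ∧
        aeval (L F q g) (minpoly F ξ) = 0 := by
  classical
  obtain ⟨σ, hσ, hc⟩ := exists_frob hF
  obtain ⟨p, hp⟩ := CharP.exists F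
  haveI : Fact p.Prime := ⟨CharP.char_is_prime F p⟩
  obtain ⟨E, _, _, _, hfr⟩ : ∃ (E : Type) (_ : Field E) (_ : Algebra F E) (_ : Finite E), finrank F E = 3 :=
    ⟨FiniteField.Extension F p 3, inferInstance, inferInstance, inferInstance, FiniteField.finrank_extension F p 3⟩
  haveI : FiniteDimensional F E := Module.finite_of_finrank_pos (by omega)
  haveI := Fintype.ofFinite E
  have hcard : Fintype.card E = q ^ 6 := by
    rw [Module.card_eq_pow_finrank (K := F), hfr, hF, ← pow_mul]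
  have hNmul : N * (q + 1) = q ^ 3 + 1 := by
    zify at hN ⊢; linear_combination (q + 1 : ℤ) * hN
  have hNmul' : N * (q ^ 2 + q + 1) = q ^ 4 + q ^ 2 + 1 := by
    zify at hN ⊢; linear_combination (q ^ 2 + q + 1 : ℤ) * hN
  have hqN : q < N := by nlinarith
  have hNdvd : N ∣ Nat.card Eˣ := by
    rw [Nat.card_units, Nat.card_eq_fintype_card, hcard]
    refine ⟨(q + 1) * (q ^ 3 - 1), ?_⟩
    rw [← mul_assoc, hNmul]
    zify [Nat.one_le_pow 6 q (by omega), Nat.one_le_pow 3 q (by omega)]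
    ring
  obtain ⟨γ, hγ⟩ := IsCyclic.exists_ofOrder_eq_natCard (α := Eˣ)
  obtain ⟨ξ, hξ⟩ : ∃ ξ : E, orderOf ξ = N := by
    refine ⟨((γ ^ (Nat.card Eˣ / N) : Eˣ) : E), ?_⟩
    rw [orderOf_units, orderOf_pow_of_dvd, hγ, Nat.div_div_self hNdvd Nat.card_pos.ne']
    · exact (Nat.div_pos (Nat.le_of_dvd Nat.card_pos hNdvd) (by omega)).ne'
    · rw [hγ]; exact Nat.div_dvd_of_dvd hNdvd
  have hξN : ξ ^ N = 1 := hξ ▸ pow_orderOf_eq_one ξ
  have hξ0 : ξ ≠ 0 := fun e => by simp [e, zero_pow (show N ≠ 0 by omega)] at hξN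
  have hint : IsIntegral F ξ := IsIntegral.of_finite F ξ
  have hdeg : (minpoly F ξ).natDegree = 3 := by
    have hd := minpoly.degree_dvd hint
    rw [hfr] at hd
    refine ((Nat.dvd_prime Nat.prime_three).1 hd).resolve_left fun h1 => ?_
    obtain ⟨c, hc'⟩ := minpoly.mem_range_of_degree_eq_one F ξ
      ((degree_eq_iff_natDegree_eq (minpoly.ne_zero hint)).2 h1)
    have hfix : ξ ^ (q ^ 2) = ξ := by rw [← hc', ← map_pow, ← hF, FiniteField.pow_card]
    have h2 : ξ ^ (q ^ 2 - 1) = 1 := by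
      refine mul_right_cancel₀ hξ0 ?_
      rw [← pow_succ, Nat.sub_add_cancel (Nat.one_le_pow _ _ (by omega)), hfix, one_mul]
    have h3 := orderOf_dvd_of_pow_eq_one h2
    rw [hξ, show q ^ 2 - 1 = N + (q - 2) by omega, Nat.dvd_add_right dvd_rfl] at h3
    have := Nat.le_of_dvd (by omega) h3
    omega
  have hirr := minpoly.irreducible hint
  let b := Module.finBasisOfFinrankEq F E hfr
  let φ : E →ₐ[F] Matrix (Fin 3) (Fin 3) F := Algebra.leftMulMatrix b
  let A : GL (Fin 3) F := Units.map φ.toRingHom.toMonoidHom (Units.mk0 ξ hξ0)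
  let P : Matrix (Fin 3) (Fin 3) F := φ ξ⁻¹
  have hAP : P * (A : Matrix (Fin 3) (Fin 3) F) = 1 := by
    show φ ξ⁻¹ * φ ξ = 1
    rw [← map_mul, inv_mul_cancel₀ hξ0, map_one]
  have hAP' : (A : Matrix (Fin 3) (Fin 3) F) * P = 1 := by
    show φ ξ * φ ξ⁻¹ = 1
    rw [← map_mul, mul_inv_cancel₀ hξ0, map_one]
  have hadj : ((A : Matrix (Fin 3) (Fin 3) F).map fun x : F => x ^ q).transpose = KnownC.GUConj.adj σ A.1 := by
    ext i j
    simp [KnownC.GUConj.adj, hσ]
  have hC : (((A : Matrix (Fin 3) (Fin 3) F).map fun x : F => x ^ q).transpose)⁻¹ = KnownC.GUConj.adj σ P := by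
    rw [hadj]
    refine Matrix.inv_eq_right_inv ?_
    rw [← KnownC.GUConj.adj_mul, hAP, KnownC.GUConj.adj_one]
  -- both roots of the same cubic
  have hroot : aeval (KnownC.GUConj.adj σ P) (minpoly F ξ) = 0 := by
    set m := minpoly F ξ
    have h1 : ∑ i ∈ Finset.range (m.natDegree + 1), σ (m.coeff i) • ξ⁻¹ ^ i = 0 := by
      obtain ⟨f, hf⟩ := Herm.exists_iterateFrobenius hF E
      refine f.injective ?_
      have hq3 : ξ ^ q ^ 3 = ξ⁻¹ := eq_inv_of_mul_eq_one_left (by rw [← pow_succ, ← hNmul, pow_mul, hξN, one_pow])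
      rw [map_zero, map_sum, ← show aeval (ξ ^ q ^ (2 * 2)) m = 0 by
        rw [aeval_pow_frob E 2 hF, minpoly.aeval, zero_pow (pow_ne_zero _ (by omega))],
        show ξ ^ q ^ (2 * 2) = (ξ⁻¹) ^ q by rw [← hq3, ← pow_mul, ← pow_succ], aeval_eq_sum_range]
      refine Finset.sum_congr rfl fun i _ => ?_
      rw [hf, Algebra.smul_def, Algebra.smul_def, mul_pow, ← map_pow, ← hσ, hc.invol, ← pow_mul, ← pow_mul,
        mul_comm i q]
    let ad : Matrix (Fin 3) (Fin 3) F →+ Matrix (Fin 3) (Fin 3) F :=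
      { toFun := KnownC.GUConj.adj σ
        map_zero' := by ext i j; simp [KnownC.GUConj.adj]
        map_add' := KnownC.GUConj.adj_add σ }
    have hadp : ∀ i, ad (P ^ i) = KnownC.GUConj.adj σ P ^ i := by
      intro i
      induction i with
      | zero => exact KnownC.GUConj.adj_one σ
      | succ i ih =>
        show KnownC.GUConj.adj σ (P ^ (i + 1)) = _
        rw [pow_succ, KnownC.GUConj.adj_mul, pow_succ']
        exact congrArg _ ih
    have hads : ∀ (c : F) (M : Matrix (Fin 3) (Fin 3) F), ad (c • M) = σ c • ad M := fun c M => by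
      ext i j; simp [ad, KnownC.GUConj.adj]
    have h2 := congrArg (fun z => ad (φ z)) h1
    simp only [map_zero, map_sum, map_smul, map_pow] at h2
    rw [aeval_eq_sum_range, ← h2]
    refine Finset.sum_congr rfl fun i _ => ?_
    rw [hads, hc.invol, hadp]
  have hA : aeval (A : Matrix (Fin 3) (Fin 3) F) (minpoly F ξ) = 0 := by
    show aeval (φ ξ) _ = 0
    rw [aeval_algHom_apply, minpoly.aeval, map_zero]
  have htolin : ∀ M : Matrix (Fin 3) (Fin 3) F, aeval M (minpoly F ξ) = 0 →
      aeval (Matrix.toLin' M) (minpoly F ξ) = 0 := fun M h => by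
    show aeval ((Matrix.toLinAlgEquiv' (R := F) (n := Fin 3)).toAlgHom M) _ = 0
    rw [aeval_algHom_apply, h, map_zero]
  have hsim : IsConj (A : Matrix (Fin 3) (Fin 3) F)
      (((A : Matrix (Fin 3) (Fin 3) F).map fun x : F => x ^ q).transpose)⁻¹ := by
    rw [hC]
    obtain ⟨e, -, he⟩ := FieldStr.exists_conj hirr (by simp) (htolin _ hA) (htolin _ hroot) one_ne_zero
    refine ⟨linToGL e, ?_⟩
    refine Matrix.toLin'.injective (LinearMap.ext fun v => ?_)
    simp only [Matrix.toLin'_apply, ← Matrix.mulVec_mulVec, linToGL_mulVec]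
    exact he v
  obtain ⟨B, hB⟩ := (KnownC.GUConj.similar_iff hF A).2 hsim
  obtain ⟨x, hx⟩ := isConj_iff.1 hB
  have hdet : (B.1 : Matrix (Fin 3) (Fin 3) F).det = 1 := by
    rw [← hx, Units.val_mul, Units.val_mul, Matrix.coe_units_inv, Matrix.det_conj x.isUnit]
    show (Algebra.leftMulMatrix b ξ).det = 1
    rw [← Algebra.norm_eq_matrix_det]
    refine (algebraMap F E).injective ?_
    rw [FiniteField.algebraMap_norm_eq_pow, map_one, Nat.card_eq_fintype_card, Nat.card_eq_fintype_card, hcard, hF,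
      show q ^ 6 - 1 = (q ^ 2 - 1) * (N * (q ^ 2 + q + 1)) by
        rw [hNmul']
        zify [Nat.one_le_pow 6 q (by omega), Nat.one_le_pow 2 q (by omega)]
        ring,
      Nat.mul_div_cancel_left _ (by have := Nat.pow_le_pow_left hq 2; omega), pow_mul, hξN, one_pow]
  refine ⟨E, inferInstance, inferInstance, inferInstance, ξ,
    ⟨⟨(B.1 : Matrix (Fin 3) (Fin 3) F), hdet⟩, B.2⟩, hfr, hξ, hdeg, hirr, htolin _ ?_⟩
  show aeval (B.1 : Matrix (Fin 3) (Fin 3) F) _ = 0
  rw [← hx]
  show aeval ((MulSemiringAction.toAlgEquiv F (Matrix (Fin 3) (Fin 3) F) (ConjAct.toConjAct x)).toAlgHom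
    (A : Matrix (Fin 3) (Fin 3) F)) _ = 0
  rw [aeval_algHom_apply, hA, map_zero]

section Main

variable {E : Type*} [Field E] [Algebra F E] [Finite E] {ξ : E} {g₀ : Cfsg.SU 3 F q}

theorem aeval_model (hroot : aeval (L F q g₀) (minpoly F ξ) = 0) {r : F[X]} (h : aeval ξ r = 0) :
    aeval (L F q g₀) r = 0 := by
  obtain ⟨c, hc⟩ := minpoly.dvd F ξ h
  rw [hc, map_mul, hroot, zero_mul]

theorem model_pow_root (hroot : aeval (L F q g₀) (minpoly F ξ) = 0) {r : F[X]} {k : ℕ}
    (h : aeval (ξ ^ k) r = 0) : aeval (L F q (g₀ ^ k)) r = 0 := by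
  have := aeval_model hroot (r := r.comp (X ^ k)) (by rw [aeval_comp]; simpa using h)
  rw [aeval_comp] at this
  simpa [map_pow] using this

/-- An element without eigenvectors is conjugate to a power of the model. -/
theorem conj_pow_of_no_eigen (hF : Fintype.card F = q ^ 2) (h3 : 3 ∣ q) {N : ℕ} (hN : N + q = q ^ 2 + 1)
    (hE : finrank F E = 3) (hord : orderOf ξ = N) (hroot : aeval (L F q g₀) (minpoly F ξ) = 0) (g : Cfsg.SU 3 F q)
    (h : ∀ (c : F) (v : Fin 3 → F), L F q g v = c • v → v = 0) :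
    ∃ (x : Cfsg.SU 3 F q) (k : ℕ), x * g * x⁻¹ = g₀ ^ k := by
  classical
  obtain ⟨σ, hσ, hc⟩ := exists_frob hF
  have hq := two_le_of_card_sq hF
  obtain ⟨hi, hd⟩ := Cubic.irreducible_minpoly (Module.finrank_fin_fun F) h
  set G := L F q g
  set p := minpoly F G
  have hm : p.Monic := minpoly.monic (IsIntegral.of_finite F G)
  have hp0 : p.coeff 0 ≠ 0 := fun h0 =>
    FieldStr.no_root_minpoly h 0 (by rw [IsRoot, ← coeff_zero_eq_eval_zero]; exact h0)
  have hdvd : p ∣ Herm.conjRev σ p := by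
    by_contra hnd
    obtain ⟨v, hv⟩ := exists_ne (0 : Fin 3 → F)
    refine hv (stdHerm_sepRight (σ := σ) 3 v fun w => ?_)
    exact Herm.ker_isotropic_of_coprime (stdHerm_isHermitian hc 3) (L_isometry hσ g)
      (hi.coprime_iff_not_dvd.2 hnd) (by rw [minpoly.aeval]; rfl) (by rw [minpoly.aeval]; rfl)
  obtain ⟨m, hmodd, hmle, hdm, hm1⟩ := Herm.exists_pow_of_dvd_conjRev hF hσ hc hi hp0 hdvd
  haveI := Fact.mk hi
  rw [hd] at hdm hmle
  obtain rfl : m = 3 := by
    obtain ⟨c, rfl⟩ := hdm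
    obtain ⟨d, hd'⟩ := hmodd
    omega
  set η := AdjoinRoot.root p
  let pb := AdjoinRoot.powerBasis hi.ne_zero
  haveI : FiniteDimensional F (AdjoinRoot p) := pb.finite
  haveI : Finite (AdjoinRoot p) := Module.finite_of_finite F
  have hfr : finrank F (AdjoinRoot p) = 3 := by rw [pb.finrank, AdjoinRoot.powerBasis_dim, hd]
  have hmp : minpoly F η = p := by
    rw [AdjoinRoot.minpoly_root hi.ne_zero, hm.leadingCoeff, inv_one, C_1, mul_one]
  have hnorm : Algebra.norm F η = 1 := by
    have hchar : G.charpoly = p := (eq_of_monic_of_associated hm (LinearMap.charpoly_monic G)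
      (associated_of_dvd_of_natDegree_le (LinearMap.minpoly_dvd_charpoly G) (LinearMap.charpoly_monic G).ne_zero
        (by rw [LinearMap.charpoly_natDegree, Module.finrank_fin_fun, hd]))).symm
    have h1 := LinearMap.det_eq_sign_charpoly_coeff G
    rw [hchar, Module.finrank_fin_fun] at h1
    have h2 := Algebra.PowerBasis.norm_gen_eq_coeff_zero_minpoly pb
    rw [AdjoinRoot.powerBasis_gen, hmp, AdjoinRoot.powerBasis_dim, hd] at h2
    rw [h2, ← h1]
    exact L_det g
  have hηN : η ^ N = 1 := by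
    have h1 : η ^ (N * (q + 1)) = 1 := by
      rwa [show N * (q + 1) = q ^ 3 + 1 by zify at hN ⊢; linear_combination (q + 1 : ℤ) * hN]
    have h2 : η ^ (N * (q ^ 2 + q + 1)) = 1 := by
      have h := congrArg (algebraMap F (AdjoinRoot p)) hnorm
      rw [FiniteField.algebraMap_norm_eq_pow, map_one, Module.natCard_eq_pow_finrank (K := F), hfr,
        Nat.card_eq_fintype_card, hF] at h
      have e : (q ^ 2) ^ 3 - 1 = (q ^ 2 - 1) * (N * (q ^ 2 + q + 1)) := by
        rw [show N * (q ^ 2 + q + 1) = q ^ 4 + q ^ 2 + 1 by zify at hN ⊢; linear_combination (q ^ 2 + q + 1 : ℤ) * hN]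
        zify [Nat.one_le_pow 3 (q ^ 2) (by positivity), Nat.one_le_pow 2 q (by omega)]
        ring
      rwa [e, Nat.mul_div_cancel_left _ (by have := Nat.pow_le_pow_left hq 2; omega)] at h
    rw [show N * (q ^ 2 + q + 1) = N * (q + 1) * q + N by ring, pow_add, pow_mul _ (N * (q + 1)), h1, one_pow,
      one_mul] at h2
    exact h2
  haveI : FiniteDimensional F E := Module.finite_of_finrank_pos (by omega)
  obtain ⟨e⟩ := FiniteField.nonempty_algHom_of_finrank_dvd (F := F) (K := AdjoinRoot p) (L := E) (by rw [hfr, hE])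
  have hN0 : 0 < N := by nlinarith
  haveI : NeZero N := ⟨hN0.ne'⟩
  have hξp : IsPrimitiveRoot ξ N := hord ▸ IsPrimitiveRoot.orderOf ξ
  obtain ⟨k, -, hk⟩ := hξp.eq_pow_of_pow_eq_one (ξ := e η) (by rw [← map_pow, hηN, map_one])
  have hr : aeval (L F q (g₀ ^ k)) p = 0 :=
    model_pow_root hroot (by rw [hk, aeval_algHom_apply, AdjoinRoot.aeval_eq, AdjoinRoot.mk_self, map_zero])
  obtain ⟨T, -, hT⟩ := FieldStr.exists_conj hi (by simp) (minpoly.aeval F G) hr one_ne_zero
  obtain ⟨x, hx⟩ := isConj_of_similar hF h3 T hT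
  exact ⟨x, k, hx⟩

/-- The normaliser of the model contains a regular unipotent element. -/
theorem exists_unipotent (hF : Fintype.card F = q ^ 2) (h3 : 3 ∣ q) (hchar : (3 : F) = 0) (hE : finrank F E = 3)
    (hξ : ξ ≠ 0) (hdeg : (minpoly F ξ).natDegree = 3) (hirr : Irreducible (minpoly F ξ))
    (hroot : aeval (L F q g₀) (minpoly F ξ) = 0) :
    ∃ u ∈ Subgroup.normalizer (Subgroup.zpowers g₀ : Set (Cfsg.SU 3 F q)),
      (L F q u - 1) ^ 3 = 0 ∧ (L F q u - 1) ^ 2 ≠ 0 := by
  classical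
  haveI := Fintype.ofFinite E
  have hq := two_le_of_card_sq hF
  have hcard : Fintype.card E = q ^ 6 := by
    rw [Module.card_eq_pow_finrank (K := F), hE, hF, ← pow_mul]
  set G := L F q g₀
  set m := minpoly F ξ
  have hdv : m.natDegree = finrank F (Fin 3 → F) := by rw [Module.finrank_fin_fun, hdeg]
  obtain ⟨T, -, hT⟩ := FieldStr.exists_conj hirr (by simp) hroot
    (model_pow_root (k := q ^ (2 * 1)) hroot (by
      rw [aeval_pow_frob E 1 hF, minpoly.aeval, zero_pow (pow_ne_zero _ (by omega))])) one_ne_zero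
  obtain ⟨u, hu⟩ := isConj_of_similar hF h3 T hT
  rw [mul_one] at hu
  have hconj : ∀ j, u ^ j * g₀ * (u ^ j)⁻¹ = g₀ ^ q ^ (2 * j) := by
    intro j
    induction j with
    | zero => simp
    | succ j ih =>
      rw [pow_succ', _root_.mul_inv_rev, show u * u ^ j * g₀ * ((u ^ j)⁻¹ * u⁻¹) = u * (u ^ j * g₀ * (u ^ j)⁻¹) * u⁻¹
        by group, ih, ← conj_pow, hu, ← pow_mul, ← pow_add]
      congr 2
      ring
  have hg6 : g₀ ^ q ^ 6 = g₀ := L_injective <| by
    have := aeval_model hroot (r := X ^ q ^ 6 - X)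
      (by simp [← hcard, FiniteField.pow_card])
    simpa [sub_eq_zero] using this
  have hcomm : Commute (L F q (u ^ 3)) G := by
    have e := hconj 3
    rw [show 2 * 3 = 6 by rfl, hg6, mul_inv_eq_iff_eq_mul] at e
    exact (congrArg (L F q) e).trans (map_mul _ _ _) |> fun h => (map_mul _ _ _).symm.trans h
  obtain ⟨r, hr⟩ := Cubic.exists_aeval_of_commute hirr hroot hdv hcomm
  set k := q ^ 6 - 1
  have hk3 : ∃ j, k = 3 * j + 2 := by
    obtain ⟨c, rfl⟩ := h3
    refine ⟨243 * c ^ 6 - 1, ?_⟩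
    have e : (3 * c) ^ 6 = 3 * (243 * c ^ 6) := by ring
    have : 1 ≤ c ^ 6 := Nat.one_le_pow _ _ (by omega)
    omega
  have hu3 : (u ^ k) ^ 3 = 1 := L_injective <| by
    have hr0 : aeval ξ r ≠ 0 := fun h0 => by
      have h := aeval_model hroot h0
      have hd := L_det (u ^ 3)
      rw [hr, h, LinearMap.det_zero, Module.finrank_fin_fun] at hd
      simp at hd
    rw [← pow_mul, mul_comm, pow_mul, map_pow, hr, map_one, ← map_pow, ← sub_eq_zero, ← map_one (aeval (R := F) G), ← map_sub]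
    refine aeval_model hroot ?_
    rw [map_sub, map_pow, map_one, show k = Fintype.card E - 1 by rw [hcard], FiniteField.pow_card_sub_one_eq_one _ hr0,
      sub_self]
  have hnorm : u ^ k ∈ Subgroup.normalizer (Subgroup.zpowers g₀ : Set (Cfsg.SU 3 F q)) := by
    refine mem_normalizer_of_maps fun y hy => ?_
    obtain ⟨z, rfl⟩ := hy
    show u ^ k * g₀ ^ z * (u ^ k)⁻¹ ∈ Subgroup.zpowers g₀
    rw [← conj_zpow, hconj]
    exact zpow_mem (pow_mem (Subgroup.mem_zpowers g₀) _) _
  refine ⟨u ^ k, hnorm, ?_, ?_⟩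
  · have e : ((X : F[X]) - 1) ^ 3 = X ^ 3 - 1 := by
      have : (3 : F[X]) = 0 := by rw [← C_ofNat, hchar, C_0]
      linear_combination (X - X ^ 2) * this
    have h := congrArg (aeval (L F q (u ^ k))) e
    rw [map_pow (aeval (R := F) _), map_sub, map_sub, map_pow (aeval (R := F) _), aeval_X, map_one] at h
    rw [h, ← map_pow, hu3, map_one, sub_self]
  · intro h2
    set U := L F q (u ^ k) with hU
    set Q := q ^ (2 * k)
    have hsc : ∀ r : F[X], U * aeval G r = aeval (G ^ Q) r * U := by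
      intro r
      have h1 : U * G = G ^ Q * U := by
        rw [hU, ← map_pow, ← map_mul, ← map_mul, ← mul_inv_eq_iff_eq_mul.1 (hconj k)]
      induction r using Polynomial.induction_on with
      | C a => simp [Algebra.commutes]
      | add a b ha hb => rw [map_add, map_add, mul_add, add_mul, ha, hb]
      | monomial i a ih =>
        rw [pow_succ, ← mul_assoc, map_mul (aeval G) _ X, map_mul (aeval (G ^ Q)) _ X, aeval_X, aeval_X,
          ← mul_assoc, ih, mul_assoc, h1, ← mul_assoc]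
    have hker : finrank F (LinearMap.ker (U - 1)) ≤ 1 := by
      rcases eq_or_ne (LinearMap.ker (U - 1)) ⊥ with e | e
      · rw [e, finrank_bot]; exact Nat.zero_le _
      obtain ⟨v, hv, hv0⟩ := (Submodule.ne_bot_iff _).1 e
      have hv' : U v = v := sub_eq_zero.1 hv
      refine (Submodule.finrank_mono (show LinearMap.ker (U - 1) ≤ Submodule.span F {v} from fun w hw => ?_)).trans
        (finrank_span_singleton hv0).le
      obtain ⟨s, rfl⟩ := Cubic.exists_aeval_apply hirr hroot hdv hv0 w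
      have hw' : U (aeval G s v) = aeval G s v := sub_eq_zero.1 hw
      rw [← Module.End.mul_apply, hsc, Module.End.mul_apply, hv'] at hw'
      have hdv' : m ∣ s.comp (X ^ Q) - s := Cubic.dvd_of_aeval_apply_eq_zero hirr hroot hv0
        (by rw [map_sub, aeval_comp, map_pow, aeval_X, LinearMap.sub_apply, hw', sub_self])
      have hη : (aeval ξ s) ^ Q = aeval ξ s := by
        obtain ⟨c, hc⟩ := hdv'
        have := congrArg (aeval ξ) hc
        rw [map_sub, aeval_comp, map_pow, aeval_X, map_mul, minpoly.aeval, zero_mul, sub_eq_zero] at this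
        rw [← aeval_pow_frob E k hF]
        exact this
      set η := aeval ξ s
      have h6 : ∀ j, η ^ q ^ (6 * j) = η := fun j => by
        rw [pow_mul, ← hcard, FiniteField.pow_card_pow]
      obtain ⟨j, hj⟩ := hk3
      have h4 : η ^ q ^ 4 = η := by
        have e : Q = q ^ (6 * j) * q ^ 4 := by
          show q ^ (2 * k) = _
          rw [← pow_add, show 2 * k = 6 * j + 4 by omega]
        rw [e, pow_mul, h6] at hη
        exact hη
      have h2' : η ^ Fintype.card F = η := by
        rw [hF]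
        conv_lhs => rw [← h4]
        rw [← pow_mul, ← pow_add]
        exact (h6 1)
      obtain ⟨c, hc⟩ := mem_base_of_fixed E h2'
      have := aeval_model hroot (r := s - C c) (by rw [map_sub, aeval_C, hc, sub_self])
      rw [map_sub, aeval_C, sub_eq_zero] at this
      exact Submodule.mem_span_singleton.2 ⟨c, by rw [this, Module.algebraMap_end_apply]⟩
    have hrk : LinearMap.range (U - 1) ≤ LinearMap.ker (U - 1) := by
      rintro _ ⟨w, rfl⟩
      show (U - 1) ((U - 1) w) = 0
      rw [← Module.End.mul_apply, ← pow_two, h2, LinearMap.zero_apply]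
    have h1 := LinearMap.finrank_range_add_finrank_ker (U - 1)
    rw [Module.finrank_fin_fun] at h1
    have := Submodule.finrank_mono hrk
    omega
where
  mem_normalizer_of_maps {G : Type _} [Group G] [Finite G] {g a : G}
      (h : ∀ y ∈ Subgroup.zpowers a, g * y * g⁻¹ ∈ Subgroup.zpowers a) :
      g ∈ Subgroup.normalizer (Subgroup.zpowers a : Set G) := by
    refine Subgroup.mem_normalizer_iff.2 fun y => ⟨h y, fun hy => ?_⟩
    obtain ⟨⟨z, hz⟩, hze⟩ := (Finite.injective_iff_surjective (f := fun y : Subgroup.zpowers a =>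
      (⟨g * y * g⁻¹, h y y.2⟩ : Subgroup.zpowers a))).1 (fun b c hbc => Subtype.ext (by simpa using hbc)) ⟨_, hy⟩
    have : g * z * g⁻¹ = g * y * g⁻¹ := congrArg Subtype.val hze
    simp only [mul_left_inj, mul_right_inj] at this
    exact this ▸ hz

/-- An element with only isotropic eigenvectors is a regular unipotent. -/
theorem unipotent_of_isotropic (hF : Fintype.card F = q ^ 2) (hσ : ∀ x, σ x = x ^ q) (hc : IsConjugation σ)
    (hchar : (3 : F) = 0) (g : Cfsg.SU 3 F q)
    (hiso : ∀ (c : F) (w : Fin 3 → F), L F q g w = c • w → stdHerm σ 3 w w = 0)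
    {l : F} {v : Fin 3 → F} (hv0 : v ≠ 0) (hlv : L F q g v = l • v) :
    (L F q g - 1) ^ 3 = 0 ∧ (L F q g - 1) ^ 2 ≠ 0 := by
  classical
  set B := stdHerm σ 3
  have hh : IsHermitian B := stdHerm_isHermitian hc 3
  have hN : B.SeparatingRight := stdHerm_sepRight 3
  set G := L F q g
  have hg : ∀ x y, B (G x) (G y) = B x y := L_isometry hσ g
  have hl0 : l ≠ 0 := fun e => hv0 (hN v fun w => by rw [← hg, hlv, e, zero_smul, map_zero])
  have hvv : B v v = 0 := hiso l v hlv
  obtain ⟨x, hx⟩ : ∃ x, B v x = 1 := by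
    obtain ⟨y, hy⟩ : ∃ y, B v y ≠ 0 := by
      by_contra hall
      push Not at hall
      exact hv0 (hN v fun w => hh.isRefl _ _ (hall w))
    exact ⟨(B v y)⁻¹ • y, by rw [map_smul, smul_eq_mul, inv_mul_cancel₀ hy]⟩
  let W := LinearMap.ker (B v)
  have hWd : finrank F W = 2 := by
    have h1 := LinearMap.finrank_range_add_finrank_ker (B v)
    rw [LinearMap.range_eq_top.2 fun a => ⟨a • x, by rw [map_smul, hx, smul_eq_mul, mul_one]⟩, finrank_top,
      Module.finrank_self, Module.finrank_fin_fun] at h1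
    show finrank F (LinearMap.ker (B v)) = 2
    omega
  obtain ⟨w, hw, hwv⟩ : ∃ w ∈ W, w ∉ Submodule.span F {v} := by
    by_contra hall
    push Not at hall
    have := Submodule.finrank_mono (show W ≤ Submodule.span F {v} from hall)
    rw [finrank_span_singleton hv0] at this
    omega
  have hvw : B v w = 0 := hw
  have hspan : Submodule.span F {w, v} = W := by
    refine Submodule.eq_of_le_of_finrank_eq (Submodule.span_le.2 ?_) ?_
    · rintro z (rfl | rfl)
      · exact hw
      · exact hvv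
    · have hli : LinearIndependent F ![w, v] := by
        refine (LinearIndependent.pair_iff' (fun e => hwv (by rw [e]; exact zero_mem _))).2 fun c hc' => hwv ?_
        have hc0 : c ≠ 0 := fun e => hv0 (by rw [← hc', e, zero_smul])
        exact Submodule.mem_span_singleton.2 ⟨c⁻¹, by rw [← hc', smul_smul, inv_mul_cancel₀ hc0, one_smul]⟩
      rw [hWd, ← finrank_span_eq_card hli |>.trans (Fintype.card_fin 2), Matrix.range_cons, Matrix.range_cons,
        Matrix.range_empty, Set.union_empty, Set.singleton_union]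
  have hdec : ∀ z, B v z = 0 → ∃ a b : F, a • w + b • v = z := fun z hz => by
    have : z ∈ Submodule.span F {w, v} := by rw [hspan]; exact hz
    exact Submodule.mem_span_pair.1 this
  obtain ⟨μ, c, hgw⟩ := hdec (G w) (by
    have h := hg v w
    rw [hlv, hvw, map_smulₛₗ, LinearMap.smul_apply, smul_eq_mul, mul_eq_zero, map_eq_zero] at h
    exact h.resolve_left hl0)
  have hww : B w w ≠ 0 := by
    intro hww
    set s := σ (B w x)
    have hzero : ∀ z, B (w - s • v) z = 0 := by
      intro z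
      obtain ⟨a, b, hab⟩ := hdec (z - B v z • x) (by rw [map_sub, map_smul, hx, smul_eq_mul, mul_one, sub_self])
      rw [show z = a • w + b • v + B v z • x by rw [hab, sub_add_cancel]]
      simp [map_add, map_smul, map_sub, hww, hh.isRefl _ _ hvw, hvw, hvv, hx, s, hc.invol, mul_comm]
    have : w - s • v = 0 := hN _ fun z => hh.isRefl _ _ (hzero z)
    exact hwv (Submodule.mem_span_singleton.2 ⟨s, (sub_eq_zero.1 this).symm⟩)
  have hμ : μ = l := by
    by_contra hne
    refine hww ?_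
    have h := hiso μ (w + (c / (μ - l)) • v) (by
      rw [map_add, map_smul, hlv, ← hgw, smul_add, smul_smul, smul_smul, add_assoc, ← add_smul]
      congr 2
      field_simp [sub_ne_zero.2 hne]
      ring)
    simpa [map_add, map_smul, hvw, hh.isRefl _ _ hvw, hvv] using h
  subst hμ
  have hc0 : c ≠ 0 := fun e => hww (hiso μ w (by rw [← hgw, e, zero_smul, add_zero]))
  have hnorm : σ μ * μ = 1 := by
    have h := hg w w
    rw [← hgw] at h
    simp [map_add, map_smul, hvw, hh.isRefl _ _ hvw, hvv] at h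
    refine mul_right_cancel₀ hww ?_
    linear_combination h
  obtain ⟨β, γ, hgx⟩ : ∃ β γ : F, G x = μ • x + (β • w + γ • v) := by
    have h := hg v x
    rw [hlv, hx, map_smulₛₗ, LinearMap.smul_apply, smul_eq_mul] at h
    have h2 : B v (G x) = μ := by linear_combination μ * h - B v (G x) * hnorm
    obtain ⟨a, b, hab⟩ := hdec (G x - μ • x) (by rw [map_sub, map_smul, hx, h2, smul_eq_mul, mul_one, sub_self])
    exact ⟨a, b, by rw [hab]; abel⟩
  have hβ : β ≠ 0 := by
    intro hβ
    have h := hg w x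
    rw [← hgw, hgx, hβ] at h
    simp [map_add, map_smul, hvw, hh.isRefl _ _ hvw, hvv, hx] at h
    have h' : σ c * μ = 0 := by linear_combination h - B w x * hnorm
    simp [hl0, hc0] at h'
  set D := G - algebraMap F _ μ with hD
  have hDv : D v = 0 := by simp [hD, hlv]
  have hDw : D w = c • v := by simp [hD, ← hgw]
  have hDx : D x = β • w + γ • v := by simp [hD, hgx]
  have hD3 : D ^ 3 = 0 := LinearMap.ext fun z => by
    obtain ⟨a, b, hab⟩ := hdec (z - B v z • x) (by rw [map_sub, map_smul, hx, smul_eq_mul, mul_one, sub_self])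
    rw [show z = a • w + b • v + B v z • x by rw [hab, sub_add_cancel]]
    simp [pow_succ, map_add, map_smul, hDv, hDw, hDx]
  have hD2 : (D ^ 2) x = (β * c) • v := by
    simp [pow_succ, map_add, map_smul, hDv, hDw, hDx, smul_smul]
  have hμ1 : μ = 1 := by
    have e : ((X : F[X]) - C μ) ^ 3 = X ^ 3 - C (μ ^ 3) := by
      have : (3 : F[X]) = 0 := by rw [← C_ofNat, hchar, C_0]
      rw [C_pow]
      linear_combination (X * C μ ^ 2 - X ^ 2 * C μ) * this
    have h := congrArg (aeval G) e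
    simp only [map_pow, map_sub, aeval_X, aeval_C] at h
    rw [← hD, hD3, eq_comm, sub_eq_zero] at h
    have hd := congrArg LinearMap.det h
    rw [map_pow, L_det, one_pow, ← map_pow, Module.algebraMap_end_eq_smul_id, LinearMap.det_smul,
      LinearMap.det_id, Module.finrank_fin_fun, mul_one, ← pow_mul] at hd
    have h9 : (μ - 1) ^ 9 = 0 := by
      linear_combination (-1 : F) * hd + (-3 * μ ^ 8 + 12 * μ ^ 7 - 28 * μ ^ 6 + 42 * μ ^ 5 - 42 * μ ^ 4 + 28 * μ ^ 3 - 12 * μ ^ 2 + 3 * μ) * hchar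
    exact sub_eq_zero.1 (pow_eq_zero_iff (by norm_num) |>.1 h9)
  subst hμ1
  rw [map_one] at hD
  refine ⟨hD ▸ hD3, fun h0 => ?_⟩
  have := congrArg (fun f : Module.End F (Fin 3 → F) => f x) (hD ▸ h0 : D ^ 2 = 0)
  simp only [hD2, LinearMap.zero_apply, smul_eq_zero, mul_eq_zero] at this
  rcases this with (h' | h') | h'
  · exact hβ h'
  · exact hc0 h'
  · exact hv0 h'

end Main

end CfsgLib.KnownA.NormalCover.PSU3

namespace CfsgLib.KnownA.NormalCover

open CfsgLib.Classical PSU3 in
theorem psu_three {F : Type*} [Field F] [Fintype F] (q a : ℕ) (hF : Fintype.card F = q ^ 2) (ha : 1 ≤ a)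
    (hq3 : q = 3 ^ a) :
    ∃ H K : Subgroup (Cfsg.PSU 3 F q), H ≠ ⊤ ∧ K ≠ ⊤ ∧
      ∀ g : Cfsg.PSU 3 F q, ∃ x, x * g * x⁻¹ ∈ H ∨ x * g * x⁻¹ ∈ K := by
  classical
  obtain ⟨σ, hσ, hc⟩ := exists_frob hF
  have h3 : 3 ∣ q := hq3 ▸ dvd_pow_self 3 (by omega)
  have hq : 3 ≤ q := Nat.le_of_dvd (hq3 ▸ pow_pos (by norm_num) a) h3
  have hchar : (3 : F) = 0 := by
    have h := FiniteField.cast_card_eq_zero F
    rw [hF, hq3] at h
    push_cast at h
    exact pow_eq_zero_iff (by omega) |>.1 (pow_eq_zero_iff two_ne_zero |>.1 h)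
  obtain ⟨E, _, _, _, ξ, g₀, hE, hord, hdeg, hirr, hroot⟩ :=
    exists_model hF (N := q ^ 2 + 1 - q) (by have := Nat.le_self_pow two_ne_zero q; omega) hq
  have hN0 : q ^ 2 + 1 - q ≠ 0 := by have := Nat.le_self_pow two_ne_zero q; omega
  have hξ0 : ξ ≠ 0 := fun e => by
    rw [e, orderOf_zero] at hord
    exact hN0 hord.symm
  obtain ⟨u, hu, hu3, hu2⟩ := exists_unipotent hF h3 hchar hE hξ0 hdeg hirr hroot
  have hcen : Subgroup.center (Cfsg.SU 3 F q) = ⊥ := by
    refine Subgroup.card_eq_one.1 ?_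
    rw [card_center_SU hF (by norm_num)]
    obtain ⟨j, rfl⟩ := h3
    rw [Nat.gcd_rec, Nat.mul_add_mod]
    exact Nat.gcd_one_left 3
  set e0 : Fin 3 → F := ![1, 0, 0]
  set e1 : Fin 3 → F := ![0, 1, 0]
  have hb : stdHerm σ 3 e0 e0 = 1 := by simp [e0, stdHerm_apply, Fin.sum_univ_three]
  have hb' : stdHerm σ 3 e1 e1 = 1 := by simp [e1, stdHerm_apply, Fin.sum_univ_three]
  refine Covers.quotient (H := PSU4.suStab hσ (Submodule.span F {e0}))
    (K := Subgroup.normalizer (Subgroup.zpowers g₀ : Set (Cfsg.SU 3 F q))) ?_ (hcen ▸ bot_le) ?_ (hcen ▸ bot_le) ?_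
  · intro g
    by_cases hne : ∃ (c : F) (v : Fin 3 → F), stdHerm σ 3 v v ≠ 0 ∧ L F q g v = c • v
    · obtain ⟨c, v, hv, hgv⟩ := hne
      obtain ⟨x, hx⟩ := PSU4.exists_su_point hσ hc hv hb
      refine ⟨x, Or.inl (PSU4.conj_mem hσ hx fun u hu => ?_)⟩
      obtain ⟨t, rfl⟩ := Submodule.mem_span_singleton.1 hu
      rw [map_smul, show (suHom hσ g).1 v = c • v from hgv, smul_smul]
      exact Submodule.smul_mem _ _ (Submodule.mem_span_singleton_self v)
    push Not at hne
    by_cases heig : ∀ (c : F) (v : Fin 3 → F), L F q g v = c • v → v = 0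
    · obtain ⟨x, k, hx⟩ := conj_pow_of_no_eigen hF h3 (by have := Nat.le_self_pow two_ne_zero q; omega) hE hord hroot g heig
      exact ⟨x, Or.inr (hx ▸ Subgroup.le_normalizer (pow_mem (Subgroup.mem_zpowers g₀) k))⟩
    push Not at heig
    obtain ⟨l, v, hlv, hv0⟩ := heig
    obtain ⟨hg3, hg2⟩ := unipotent_of_isotropic hF hσ hc hchar g (fun c w hw => by
      by_contra h0
      exact hne c w h0 hw) hv0 hlv
    obtain ⟨T, hT⟩ := Cubic.exists_conj_block (Module.finrank_fin_fun F) hg3 hg2 hu3 hu2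
    obtain ⟨x, hx⟩ := isConj_of_similar hF h3 T fun w => by simpa [sub_eq_iff_eq_add] using hT w
    exact ⟨x, Or.inr (hx ▸ hu)⟩
  · refine PSU4.suStab_ne_top hσ (PSU4.exists_su_point hσ hc (by rw [hb]; exact one_ne_zero) hb') fun e => ?_
    have h : e1 ∈ Submodule.span F {e0} := e ▸ Submodule.mem_span_singleton_self e1
    obtain ⟨t, ht⟩ := Submodule.mem_span_singleton.1 h
    simpa [e0, e1] using congrFun ht 1
  · intro htop
    let d : Fin 3 → F := ![-1, -1, 1]
    let D : Matrix.SpecialLinearGroup (Fin 3) F := ⟨diagonal d, by simp [d, det_diagonal, Fin.prod_univ_three]⟩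
    have hDmem : D ∈ Cfsg.SU 3 F q := by
      intro u v
      show Cfsg.hermForm 3 F q (diagonal d *ᵥ u) (diagonal d *ᵥ v) = _
      rw [hermForm_eq_stdHerm hσ, hermForm_eq_stdHerm hσ]
      simp [d, stdHerm_apply, Fin.sum_univ_three, mulVec_diagonal]
    let x : Cfsg.SU 3 F q := ⟨D, hDmem⟩
    have hx2 : L F q x * L F q x = 1 := by
      rw [← map_mul, ← map_one (L F q)]
      refine congrArg _ (Subtype.ext (Subtype.ext ?_))
      show diagonal d * diagonal d = 1
      rw [diagonal_mul_diagonal, ← diagonal_one]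
      congr 1
      funext i; fin_cases i <;> simp [d]
    have hmem := (Subgroup.mem_normalizer_iff.1 (htop ▸ Subgroup.mem_top x :
      x ∈ Subgroup.normalizer (Subgroup.zpowers g₀ : Set (Cfsg.SU 3 F q))) g₀).1 (Subgroup.mem_zpowers g₀)
    obtain ⟨t, ht : g₀ ^ t = x * g₀ * x⁻¹⟩ := (mem_powers_iff_mem_zpowers).2 hmem
    set X0 := L F q x
    set G := L F q g₀
    have hconj : X0 * G = G ^ t * X0 := by
      rw [← map_pow, ← map_mul, ← map_mul, ht, inv_mul_cancel_right]
    have hconj' : ∀ r : F[X], X0 * aeval G r = aeval (G ^ t) r * X0 := by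
      intro r
      induction r using Polynomial.induction_on with
      | C a => simp [Algebra.commutes]
      | add a b ha hb => rw [map_add, map_add, mul_add, add_mul, ha, hb]
      | monomial i a ih =>
        rw [pow_succ, ← mul_assoc, map_mul (aeval G) _ Polynomial.X, map_mul (aeval (G ^ t)) _ Polynomial.X,
          aeval_X, aeval_X, ← mul_assoc, ih, mul_assoc, hconj, ← mul_assoc]
    have hX : ∀ w : Fin 3 → F, X0 w = ![-w 0, -w 1, w 2] := fun w => by
      show Matrix.toLin' (diagonal d) w = _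
      funext i
      fin_cases i <;> simp [d, mulVec_diagonal]
    set v : Fin 3 → F := ![0, 0, 1] with hv
    have hv0 : v ≠ 0 := fun e => one_ne_zero (congrFun e 2)
    have hXv : X0 v = v := by rw [hX]; funext i; fin_cases i <;> simp [hv]
    have hd3 : (minpoly F ξ).natDegree = finrank F (Fin 3 → F) := by rw [Module.finrank_fin_fun, hdeg]
    have hkill : ∀ (r : F[X]) (z : Fin 3 → F), z ≠ 0 → aeval G r z = 0 → aeval G r = 0 := fun r z hz h => by
      obtain ⟨c, hc'⟩ := Cubic.dvd_of_aeval_apply_eq_zero hirr hroot hz h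
      rw [hc', map_mul, hroot, zero_mul]
    -- the two independent anti-fixed vectors
    have hanti : ∀ z : Fin 3 → F, z 2 = 0 → ∃ r : F[X], aeval G r v = z ∧ aeval (G ^ t) r = - aeval G r := by
      intro z hz
      obtain ⟨r, hr⟩ := Cubic.exists_aeval_apply hirr hroot hd3 hv0 z
      refine ⟨r, hr, ?_⟩
      have h1 : aeval (G ^ t) r v = -z := by
        have h := congrArg (fun f : Module.End F (Fin 3 → F) => f v) (hconj' r)
        simp only [Module.End.mul_apply, hXv, hr] at h
        rw [← h, hX]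
        funext i
        fin_cases i <;> simp [hz]
      have h2 := hkill (r.comp (Polynomial.X ^ t) + r) v hv0 (by
        rw [map_add, aeval_comp, map_pow, aeval_X, LinearMap.add_apply, h1, hr, neg_add_cancel])
      rw [map_add, aeval_comp, map_pow, aeval_X] at h2
      exact eq_neg_of_add_eq_zero_left h2
    obtain ⟨ra, hra, hra'⟩ := hanti ![1, 0, 0] rfl
    obtain ⟨rb, hrb, hrb'⟩ := hanti ![0, 1, 0] rfl
    have hprod : ∀ r s : F[X], aeval (G ^ t) r = - aeval G r → aeval (G ^ t) s = - aeval G s →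
        ∃ c : F, aeval G r (aeval G s v) = c • v := by
      intro r s hr hs
      have h := congrArg (fun f : Module.End F (Fin 3 → F) => f v) (hconj' (r * s))
      simp only [map_mul, hr, hs, Module.End.mul_apply, hXv, LinearMap.neg_apply, map_neg, neg_neg] at h
      rw [hX] at h
      set w := aeval G r (aeval G s v)
      have h0 := congrFun h 0
      have h1 := congrFun h 1
      have two : ∀ y : F, -y = y → y = 0 := fun y hy => by linear_combination hy + y * hchar
      refine ⟨w 2, funext fun i => ?_⟩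
      fin_cases i
      · simpa [hv] using two _ h0
      · simpa [hv] using two _ h1
      · simp [hv]
    obtain ⟨c, hcab⟩ := hprod ra rb hra' hrb'
    obtain ⟨c', hcaa⟩ := hprod ra ra hra' hra'
    rw [hrb] at hcab
    rw [hra] at hcaa
    have hker : aeval G ra (c' • ![0, 1, 0] - c • ![1, 0, 0]) = 0 := by
      rw [map_sub, map_smul, map_smul, hcab, hcaa, smul_comm, sub_self]
    have hra0 : aeval G ra ≠ 0 := fun e => by
      rw [e, LinearMap.zero_apply] at hra
      exact one_ne_zero (congrFun hra 0).symm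
    by_cases hz : c' • (![0, 1, 0] : Fin 3 → F) - c • ![1, 0, 0] = 0
    · have hc0 : c' = 0 := by simpa using congrFun hz 1
      rw [hc0, zero_smul] at hcaa
      exact hra0 (hkill ra ![1, 0, 0] (fun e => one_ne_zero (congrFun e 0)) hcaa)
    · exact hra0 (hkill ra _ hz hker)

end CfsgLib.KnownA.NormalCover
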