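import Cfsg.Agent.Lib.KnownA.NormalCover.Herm

/-!
# A normal covering of the four dimensional unitary groups
-/

set_option autoImplicit false
set_option linter.unusedSectionVars false

open Module Matrix

namespace CfsgLib.KnownA.NormalCover.PSU4

open CfsgLib.Classical

variable {F : Type*} [Field F] [Fintype F] {n q : ℕ} {σ : F →+* F}

/-- The stabiliser of a subspace in the special unitary group. -/
noncomputable def suStab (hσ : ∀ x, σ x = x ^ q) (W : Submodule F (Fin n → F)) : Subgroup (Cfsg.SU n F q) :=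
  (isomStab (stdHerm σ n) W).comap (suHom hσ)

theorem mem_of_invariant {g : isomGroup (stdHerm σ n)} {W : Submodule F (Fin n → F)}
    (h : ∀ x ∈ W, g.1 x ∈ W) : g ∈ isomStab (stdHerm σ n) W := by
  refine Submodule.eq_of_le_of_finrank_eq ?_ (LinearEquiv.finrank_map_eq g.1 W)
  rintro _ ⟨x, hx, rfl⟩
  exact h x hx

theorem center_le_suStab (hF : Fintype.card F = q ^ 2) (hσ : ∀ x, σ x = x ^ q) (hn : 2 ≤ n)
    (W : Submodule F (Fin n → F)) : Subgroup.center (Cfsg.SU n F q) ≤ suStab hσ W := fun z hz => by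
  obtain ⟨c, hc⟩ := scalar_of_commute hF hn (z.1 : Matrix (Fin n) (Fin n) F) fun g hg hg1 =>
    congrArg (fun B : Cfsg.SU n F q => (B.1 : Matrix (Fin n) (Fin n) F))
      (Subgroup.mem_center_iff.1 hz ⟨⟨(g : Matrix (Fin n) (Fin n) F), congrArg Units.val hg1⟩, hg⟩).symm
  refine mem_of_invariant fun x hx => ?_
  show (z.1 : Matrix (Fin n) (Fin n) F) *ᵥ x ∈ W
  rw [hc, smul_mulVec, one_mulVec]
  exact W.smul_mem c hx

theorem exists_su_map (hσ : ∀ x, σ x = x ^ q) (hc : IsConjugation σ) {W W' : Submodule F (Fin n → F)}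
    (h : ∃ g : isomGroup (stdHerm σ n), W.map (g.1 : (Fin n → F) →ₗ[F] _) = W')
    (hdet : ∀ l : F, l * σ l = 1 → ∃ g ∈ isomStab (stdHerm σ n) W', idet _ g = l) :
    ∃ x : Cfsg.SU n F q, W.map ((suHom hσ x).1 : (Fin n → F) →ₗ[F] _) = W' := by
  obtain ⟨g, hg⟩ := h
  have hh := stdHerm_isHermitian hc n
  have hd : idet (stdHerm σ n) g * σ (idet (stdHerm σ n) g) = 1 := hh.idet_norm (stdHerm_sepRight n) g
  obtain ⟨s, hs, hsd⟩ := hdet (σ (idet _ g)) (by rw [hc.invol, mul_comm]; exact hd)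
  obtain ⟨x, hx⟩ : s * g ∈ (suHom (n := n) hσ).range := by
    rw [suHom_range hσ]
    refine MonoidHom.mem_ker.2 ?_
    rw [map_mul, hsd, mul_comm, hd]
  refine ⟨x, ?_⟩
  rw [hx]
  show W.map ((s.1 : (Fin n → F) →ₗ[F] _).comp (g.1 : (Fin n → F) →ₗ[F] _)) = W'
  rw [Submodule.map_comp, hg]
  exact hs

theorem conj_mem (hσ : ∀ x, σ x = x ^ q) {W W' : Submodule F (Fin n → F)} {g x : Cfsg.SU n F q}
    (hx : W.map ((suHom hσ x).1 : (Fin n → F) →ₗ[F] _) = W') (hg : ∀ v ∈ W, (suHom hσ g).1 v ∈ W) :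
    x * g * x⁻¹ ∈ suStab hσ W' := by
  refine mem_of_invariant fun v hv => ?_
  rw [← hx] at hv ⊢
  obtain ⟨u, hu, rfl⟩ := hv
  refine ⟨(suHom hσ g).1 u, hg u hu, ?_⟩
  rw [map_mul, map_mul, map_inv]
  show _ = (suHom hσ x).1 ((suHom hσ g).1 ((suHom hσ x).1.symm ((suHom hσ x).1 u)))
  rw [LinearEquiv.symm_apply_apply]
  rfl

theorem exists_su_point (hσ : ∀ x, σ x = x ^ q) (hc : IsConjugation σ) {v b : Fin n → F}
    (hv : stdHerm σ n v v ≠ 0) (hb : stdHerm σ n b b = 1) :
    ∃ x : Cfsg.SU n F q, (Submodule.span F {v}).map ((suHom hσ x).1 : (Fin n → F) →ₗ[F] _) = Submodule.span F {b} := by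
  have hh := stdHerm_isHermitian hc n
  have hN := stdHerm_sepRight (σ := σ) n
  refine exists_su_map hσ hc ?_ fun l hl => ?_
  · obtain ⟨c, hc1⟩ := hh.exists_scaled hv (map_one σ)
    set v' := c • v
    have hv0 : v' ≠ 0 := fun e => by rw [e, map_zero] at hc1; exact zero_ne_one hc1
    have hc0 : c ≠ 0 := fun e => hv0 (by show c • v = 0; rw [e, zero_smul])
    have hspan : Submodule.span F {v'} = Submodule.span F {v} :=
      Submodule.span_singleton_smul_eq (IsUnit.mk0 c hc0) v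
    let e := LinearEquiv.toSpanNonzeroSingleton F _ v' hv0
    have hb0 : b ≠ 0 := fun e => by rw [e, map_zero] at hb; exact zero_ne_one hb
    obtain ⟨g, hg⟩ := hh.witt hN (Submodule.span F {v'})
      ((LinearMap.toSpanSingleton F _ b).comp e.symm.toLinearMap)
      ((smul_left_injective F hb0).comp e.symm.injective) fun x y => by
        obtain ⟨s, rfl⟩ := e.surjective x
        obtain ⟨t, rfl⟩ := e.surjective y
        simp only [LinearMap.comp_apply, LinearEquiv.coe_coe, LinearEquiv.symm_apply_apply, LinearMap.toSpanSingleton_apply]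
        show stdHerm σ n (s • b) (t • b) = stdHerm σ n (s • v') (t • v')
        simp [hb, hc1]
    refine ⟨g, ?_⟩
    rw [← hspan, Submodule.map_span, Set.image_singleton]
    congr 2
    show g.1 v' = b
    rw [show v' = ((⟨v', Submodule.mem_span_singleton_self v'⟩ : Submodule.span F {v'}) : Fin n → F) from rfl, hg]
    have : e.symm ⟨v', Submodule.mem_span_singleton_self v'⟩ = 1 := by
      rw [LinearEquiv.symm_apply_eq]
      exact Subtype.ext (one_smul F v').symm
    simp [this]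
  · obtain ⟨g, hg, hd⟩ := hh.exists_qr hN (z := b) (by rw [hb]; exact one_ne_zero) hl
    refine ⟨g, mem_of_invariant fun x hx => ?_, hd⟩
    obtain ⟨a, rfl⟩ := Submodule.mem_span_singleton.1 hx
    rw [hg]
    exact add_mem hx (Submodule.smul_mem _ _ (Submodule.mem_span_singleton_self b))

theorem exists_su_tsub (hσ : ∀ x, σ x = x ^ q) (hc : IsConjugation σ) (hn : 1 ≤ n) {k : ℕ}
    (W W' : TSub (stdHerm σ n) k) :
    ∃ x : Cfsg.SU n F q, W.1.map ((suHom hσ x).1 : (Fin n → F) →ₗ[F] _) = W'.1 :=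
  exists_su_map hσ hc ((stdHerm_isHermitian hc n).exists_map_tsub (stdHerm_sepRight n) W W') fun _ hl =>
    (stdHerm_isHermitian hc n).exists_stab_det (stdHerm_sepRight n) (by rwa [Module.finrank_fin_fun]) W' hl

theorem suStab_ne_top (hσ : ∀ x, σ x = x ^ q) {W W' : Submodule F (Fin n → F)}
    (h : ∃ x : Cfsg.SU n F q, W.map ((suHom hσ x).1 : (Fin n → F) →ₗ[F] _) = W') (hne : W ≠ W') :
    suStab hσ W ≠ ⊤ := fun e => by
  obtain ⟨x, hx⟩ := h
  exact hne (((e ▸ Subgroup.mem_top x : x ∈ suStab hσ W) : W.map _ = W).symm.trans hx)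

end CfsgLib.KnownA.NormalCover.PSU4

namespace CfsgLib.KnownA.NormalCover

open CfsgLib.Classical in
theorem psu_four {F : Type*} [Field F] [Fintype F] (q : ℕ) (hF : Fintype.card F = q ^ 2) :
    ∃ H K : Subgroup (Cfsg.PSU 4 F q), H ≠ ⊤ ∧ K ≠ ⊤ ∧
      ∀ g : Cfsg.PSU 4 F q, ∃ x, x * g * x⁻¹ ∈ H ∨ x * g * x⁻¹ ∈ K := by
  classical
  obtain ⟨σ, hσ, hc⟩ := exists_frob hF
  have hh := stdHerm_isHermitian hc 4
  have hN := stdHerm_sepRight (σ := σ) 4
  obtain ⟨c, hcc⟩ := hc.exists_norm_eq (a := (-1 : F)) (by simp)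
  set e0 : Fin 4 → F := ![1, 0, 0, 0]
  set e1 : Fin 4 → F := ![0, 1, 0, 0]
  have hb : stdHerm σ 4 e0 e0 = 1 := by simp [e0, stdHerm_apply, Fin.sum_univ_four]
  have hb' : stdHerm σ 4 e1 e1 = 1 := by simp [e1, stdHerm_apply, Fin.sum_univ_four]
  have hcc' : σ c * c = -1 := by rw [mul_comm]; exact hcc
  have mk : ∀ a b : Fin 4 → F, LinearIndependent F ![a, b] → stdHerm σ 4 a a = 0 → stdHerm σ 4 b b = 0 →
      stdHerm σ 4 a b = 0 → ∃ W : TSub (stdHerm σ 4) 2, W.1 = Submodule.span F {a, b} := by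
    intro a b hli ha hb hab
    refine ⟨⟨Submodule.span F {a, b}, ?_, fun u hu v hv => ?_⟩, rfl⟩
    · rw [← finrank_span_eq_card hli |>.trans (Fintype.card_fin 2), Matrix.range_cons, Matrix.range_cons,
        Matrix.range_empty, Set.union_empty, Set.singleton_union]
    · obtain ⟨p, r, rfl⟩ := Submodule.mem_span_pair.1 hu
      obtain ⟨p', r', rfl⟩ := Submodule.mem_span_pair.1 hv
      simp [map_add, map_smul, map_smulₛₗ, ha, hb, hab, hh.isRefl _ _ hab]
  obtain ⟨W0, hW0⟩ := mk ![1, c, 0, 0] ![0, 0, 1, c]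
    ((LinearIndependent.pair_iff' (fun e => one_ne_zero (congrFun e 0))).2 fun t e => by
      simpa using congrFun e 2)
    (by simp [stdHerm_apply, Fin.sum_univ_four, hcc']) (by simp [stdHerm_apply, Fin.sum_univ_four, hcc'])
    (by simp [stdHerm_apply, Fin.sum_univ_four])
  obtain ⟨W1, hW1⟩ := mk ![1, 0, c, 0] ![0, 1, 0, c]
    ((LinearIndependent.pair_iff' (fun e => one_ne_zero (congrFun e 0))).2 fun t e => by
      simpa using congrFun e 1)
    (by simp [stdHerm_apply, Fin.sum_univ_four, hcc']) (by simp [stdHerm_apply, Fin.sum_univ_four, hcc'])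
    (by simp [stdHerm_apply, Fin.sum_univ_four])
  refine Covers.quotient (H := PSU4.suStab hσ (Submodule.span F {e0})) (K := PSU4.suStab hσ W0.1) ?_
    (PSU4.center_le_suStab hF hσ (by norm_num) _) ?_ (PSU4.center_le_suStab hF hσ (by norm_num) _) ?_
  · intro g
    have hg := (suHom hσ g).2
    rcases Herm.exists_point_or_plane hF hσ hh hN (Module.finrank_fin_fun F)
      (g := ((suHom hσ g).1 : (Fin 4 → F) →ₗ[F] (Fin 4 → F))) hg with ⟨a, v, hv, hgv⟩ | ⟨W, hW2, hWg, hWts⟩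
    · obtain ⟨x, hx⟩ := PSU4.exists_su_point hσ hc hv hb
      refine ⟨x, Or.inl (PSU4.conj_mem hσ hx fun u hu => ?_)⟩
      obtain ⟨t, rfl⟩ := Submodule.mem_span_singleton.1 hu
      rw [map_smul, show (suHom hσ g).1 v = a • v from hgv, smul_smul]
      exact Submodule.smul_mem _ _ (Submodule.mem_span_singleton_self v)
    · obtain ⟨x, hx⟩ := PSU4.exists_su_tsub hσ hc (by norm_num) (k := 2) ⟨W, hW2, hWts⟩ W0
      exact ⟨x, Or.inr (PSU4.conj_mem hσ hx hWg)⟩
  · refine PSU4.suStab_ne_top hσ (PSU4.exists_su_point hσ hc (by rw [hb]; exact one_ne_zero) hb') fun e => ?_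
    have h : e1 ∈ Submodule.span F {e0} := e ▸ Submodule.mem_span_singleton_self e1
    obtain ⟨t, ht⟩ := Submodule.mem_span_singleton.1 h
    simpa [e0, e1] using congrFun ht 1
  · refine PSU4.suStab_ne_top hσ (PSU4.exists_su_tsub hσ hc (by norm_num) W0 W1) fun e => ?_
    rw [hW0, hW1] at e
    have h : (![1, c, 0, 0] : Fin 4 → F) ∈ Submodule.span F {![1, 0, c, 0], ![0, 1, 0, c]} :=
      e ▸ Submodule.subset_span (Set.mem_insert _ _)
    obtain ⟨s, t, hst⟩ := Submodule.mem_span_pair.1 h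
    have h0 := congrFun hst 0
    have h2 := congrFun hst 2
    simp at h0 h2
    rcases h2 with h2 | h2
    · exact one_ne_zero (h0.symm.trans h2)
    · rw [h2, mul_zero] at hcc'
      exact one_ne_zero (neg_eq_zero.1 hcc'.symm)

end CfsgLib.KnownA.NormalCover
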