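import Cfsg.Agent.Lib.KnownA.NormalCover.Common
import Cfsg.Agent.Lib.KnownA.NormalCover.Sp6.Classify

/-!
# A normal covering of the six dimensional symplectic groups in characteristic three
-/

set_option autoImplicit false
set_option linter.unusedSectionVars false

open Module Polynomial

namespace CfsgLib.KnownA.NormalCover.Sp6

open CfsgLib.Classical

variable {F : Type*} [Field F] [Fintype F] {V : Type*} [AddCommGroup V] [Module F V] [FiniteDimensional F V]
  {B : V →ₗ[F] V →ₗ[F] F}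

theorem mem_isomStab_of_invariant {g : isomGroup B} {W : Submodule F V} (h : ∀ x ∈ W, g.1 x ∈ W) :
    g ∈ isomStab B W := by
  refine Submodule.eq_of_le_of_finrank_eq ?_ (LinearEquiv.finrank_map_eq g.1 W)
  rintro _ ⟨x, hx, rfl⟩
  exact h x hx

theorem conj_poly {G J : Module.End F V} {r : F[X]} (h : G * J = aeval J r * G) (s : F[X]) :
    G * aeval J s = aeval J (s.comp r) * G := by
  induction s using Polynomial.induction_on with
  | C a => simp [Algebra.commutes]
  | add a b ha hb => rw [add_comp, map_add, map_add, mul_add, add_mul, ha, hb]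
  | monomial i a ih =>
    rw [pow_succ, ← mul_assoc (C a), mul_comp, X_comp, map_mul (aeval J) _ X, map_mul (aeval J) _ r, aeval_X, ← mul_assoc, ih,
      mul_assoc, h, ← mul_assoc]

/-- The isometries normalising the algebra generated by `J`. -/
noncomputable def algNormalizer (B : V →ₗ[F] V →ₗ[F] F) (J : Module.End F V) : Subgroup (isomGroup B) :=
  let S : Submonoid (isomGroup B) :=
    { carrier := {g | ∃ r : F[X], (g.1 : V →ₗ[F] V) * J = aeval J r * (g.1 : V →ₗ[F] V)}
      one_mem' := ⟨X, by rw [aeval_X]; rfl⟩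
      mul_mem' := by
        rintro a b ⟨r, hr⟩ ⟨s, hs⟩
        refine ⟨s.comp r, ?_⟩
        show (a.1 : V →ₗ[F] V) * (b.1 : V →ₗ[F] V) * J = _ * ((a.1 : V →ₗ[F] V) * (b.1 : V →ₗ[F] V))
        rw [mul_assoc, hs, ← mul_assoc, conj_poly hr, mul_assoc] }
  { S with
    inv_mem' := fun {g} hg => by
      haveI : Finite V := Module.finite_of_finite F
      haveI : Finite (V ≃ₗ[F] V) := Finite.of_injective (fun e : V ≃ₗ[F] V => (e : V → V)) DFunLike.coe_injective
      obtain ⟨n, hn⟩ : ∃ n : ℕ, g⁻¹ = g ^ n := by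
        refine ⟨orderOf g - 1, inv_eq_of_mul_eq_one_right ?_⟩
        rw [← pow_succ', Nat.sub_add_cancel (orderOf_pos g), pow_orderOf_eq_one]
      show g⁻¹ ∈ S
      rw [hn]
      exact pow_mem hg n }

theorem mem_algNormalizer {J : Module.End F V} {g : isomGroup B} :
    g ∈ algNormalizer B J ↔ ∃ r : F[X], (g.1 : V →ₗ[F] V) * J = aeval J r * (g.1 : V →ₗ[F] V) := Iff.rfl

theorem neg_one_cases {g : isomGroup B} (h : (∀ x, g.1 x = x) ∨ ∀ x, g.1 x = -x) (J : Module.End F V)
    (W : Submodule F V) : g ∈ isomStab B W ∧ g ∈ algNormalizer B J := by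
  constructor
  · refine mem_isomStab_of_invariant fun x hx => ?_
    rcases h with h | h <;> rw [h x]
    · exact hx
    · exact W.neg_mem hx
  · refine mem_algNormalizer.2 ⟨X, LinearMap.ext fun x => ?_⟩
    simp only [aeval_X, Module.End.mul_apply, LinearEquiv.coe_coe]
    rcases h with h | h
    · rw [h, h]
    · rw [h, h, map_neg]

theorem covers (hA : B.IsAlt) (hB : B.Nondegenerate) (h3 : (3 : F) = 0) (hV : finrank F V = 6) {φ : F[X]}
    (hφ : Irreducible φ) (hd : φ.natDegree = 3) {J₀ : Module.End F V} (hJ₀ : aeval J₀ φ = 0) (hs₀ : SelfAdj B J₀)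
    {u₀ v₀ : V} (huv : B u₀ v₀ = 1) :
    Covers (isomStab B (Submodule.span F {u₀, v₀})) (algNormalizer B J₀) := by
  intro g
  have h2 := two_ne_zero_of h3
  rcases dec_or_semi hA hB h3 hV hφ hd (isPair_of_mem g) with ⟨W, hW, hnd, hinv⟩ | ⟨J, hJ, hsa, r, hr⟩
  · -- reduce to a plane
    obtain ⟨P, hP2, hPn, hPi⟩ : ∃ P : Submodule F V, finrank F P = 2 ∧ NondegOn B P ∧ g ∈ isomStab B P := by
      rcases hW with hW | hW
      · exact ⟨W, hW, hnd, mem_isomStab_of_invariant hinv⟩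
      · refine ⟨perp B W, ?_, nondegOn_perp hB.2 hnd, ?_⟩
        · have := hnd.finrank_perp; omega
        · have hW' := mem_isomStab.1 (mem_isomStab_of_invariant (g := g) hinv)
          rw [mem_isomStab, map_perp g.2, hW']
    obtain ⟨u, hu, hu0⟩ : ∃ u ∈ P, u ≠ 0 := (Submodule.ne_bot_iff P).1 fun e => by
      rw [e, finrank_bot] at hP2; omega
    obtain ⟨w, hw, huw⟩ : ∃ w ∈ P, B u w ≠ 0 := by
      by_contra hall
      push Not at hall
      exact hu0 (nondegOn_iff.1 hPn u hu fun w hw => hA.isRefl _ _ (hall w hw))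
    set v := (B u w)⁻¹ • w
    have huv' : B u v = 1 := by rw [map_smul, smul_eq_mul, inv_mul_cancel₀ huw]
    have hPe : Submodule.span F {u, v} = P := by
      refine Submodule.eq_of_le_of_finrank_eq (Submodule.span_le.2 ?_) (by rw [finrank_pair hA huv', hP2])
      rintro _ (rfl | rfl)
      · exact hu
      · exact P.smul_mem _ hw
    obtain ⟨t, -, ht1, ht2⟩ := tv_transitive_pairs hA hB.1 huv' huv
    refine ⟨t, Or.inl (mem_isomStab_of_invariant fun x hx => ?_)⟩
    obtain ⟨a, b, rfl⟩ := Submodule.mem_span_pair.1 hx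
    have hy : t.1.symm (a • u₀ + b • v₀) ∈ P := by
      rw [← hPe]
      refine Submodule.mem_span_pair.2 ⟨a, b, ?_⟩
      rw [map_add, map_smul, map_smul, ← ht1, ← ht2, LinearEquiv.symm_apply_apply, LinearEquiv.symm_apply_apply]
    have hgy : g.1 (t.1.symm (a • u₀ + b • v₀)) ∈ Submodule.span F {u, v} := by
      rw [hPe, ← mem_isomStab.1 hPi]
      exact Submodule.mem_map_of_mem hy
    obtain ⟨a', b', he⟩ := Submodule.mem_span_pair.1 hgy
    refine Submodule.mem_span_pair.2 ⟨a', b', ?_⟩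
    show _ = t.1 (g.1 (t.1.symm _))
    rw [← he, map_add, map_smul, map_smul, ht1, ht2]
  · haveI := Fact.mk hφ
    obtain ⟨ℓ, hℓ⟩ : ∃ ℓ : AdjoinRoot φ →ₗ[F] F, ℓ ≠ 0 := by
      refine ⟨Algebra.trace F (AdjoinRoot φ), fun e => ?_⟩
      obtain ⟨l, hl⟩ := trace_surjective_model (φ := φ)
      rw [e] at hl
      exact zero_ne_one hl
    obtain ⟨e, he, heB⟩ := exists_normalForm hA hB h2 hV hφ hd hJ hsa hℓ
    obtain ⟨e₀, he₀, heB₀⟩ := exists_normalForm hA hB h2 hV hφ hd hJ₀ hs₀ hℓ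
    let T : isomGroup B := ⟨e.symm.trans e₀, fun x y => by
      show B (e₀ (e.symm x)) (e₀ (e.symm y)) = B x y
      rw [heB₀, ← heB, e.apply_symm_apply, e.apply_symm_apply]⟩
    refine ⟨T, Or.inr (mem_algNormalizer.2 ⟨r, ?_⟩)⟩
    set Φ : Module.End F V ≃ₐ[F] Module.End F V := T.1.conjAlgEquiv F
    have hΦ : ∀ (f : Module.End F V) x, Φ f x = T.1 (f (T.1.symm x)) := fun f x => by
      simp [Φ, LinearEquiv.conjAlgEquiv_apply]
    have hgΦ : ((T * g * T⁻¹).1 : V →ₗ[F] V) = Φ (g.1 : V →ₗ[F] V) := LinearMap.ext fun x => by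
      rw [hΦ]; rfl
    have hJΦ : Φ J = J₀ := LinearMap.ext fun x => by
      rw [hΦ]
      show e₀ (e.symm (J (e (e₀.symm x)))) = J₀ x
      rw [← he, e.symm_apply_apply, he₀, e₀.apply_symm_apply]
    rw [hgΦ, ← hJΦ, ← map_mul, hr, map_mul]
    show _ = aeval (Φ.toAlgHom J) r * _
    rw [aeval_algHom_apply]
    rfl

theorem stab_ne_top (hA : B.IsAlt) (hB : B.Nondegenerate) (hV : finrank F V = 6) {u₀ v₀ : V} (huv : B u₀ v₀ = 1) :
    isomStab B (Submodule.span F {u₀, v₀}) ≠ ⊤ := by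
  intro htop
  obtain ⟨z, hz, hz0⟩ : ∃ z ∈ perp B (Submodule.span F {u₀, v₀}), z ≠ 0 := by
    refine (Submodule.ne_bot_iff _).1 fun e => ?_
    have := finrank_perp_pair_lt hA huv
    rw [e, finrank_bot, hV] at this
    omega
  set W := Submodule.span F {u₀, v₀}
  have hu : u₀ ∈ W := Submodule.mem_span_of_mem (by simp)
  have hv : v₀ ∈ W := Submodule.mem_span_of_mem (by simp)
  have h := mem_isomStab.1 (htop ▸ Subgroup.mem_top (tv hA (v₀ + z) 1) : tv hA (v₀ + z) 1 ∈ isomStab B W)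
  have hm : (tv hA (v₀ + z) 1).1 u₀ ∈ W := h ▸ Submodule.mem_map_of_mem hu
  rw [tv_apply, map_add, huv, mem_perp.1 hz u₀ hu] at hm
  simp only [add_zero, mul_one, one_smul] at hm
  have hzW : z ∈ W := by
    have := sub_mem (sub_mem hm hu) hv
    convert this using 1
    abel
  exact hz0 (Submodule.disjoint_def.1 (nondegOn_pair hA huv) z hzW hz)

theorem algNormalizer_ne_top (hA : B.IsAlt) (hB : B.Nondegenerate) (hV : finrank F V = 6) {φ : F[X]}
    (hφ : Irreducible φ) (hd : φ.natDegree = 3) {J₀ : Module.End F V} (hJ₀ : aeval J₀ φ = 0) :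
    algNormalizer B J₀ ≠ ⊤ := by
  intro htop
  haveI : Nontrivial V := Module.nontrivial_of_finrank_pos (R := F) (by omega)
  obtain ⟨v, hv⟩ := exists_ne (0 : V)
  obtain ⟨r, hr⟩ := mem_algNormalizer.1 (htop ▸ Subgroup.mem_top (tv hA v 1) : tv hA v 1 ∈ algNormalizer B J₀)
  obtain ⟨x, hx, hx0⟩ : ∃ x, x ∈ LinearMap.ker (B.flip v) ⊓ LinearMap.ker (B.flip v ∘ₗ J₀) ∧ x ≠ 0 := by
    by_contra hall
    push Not at hall
    have hinj : Function.Injective ((B.flip v).prod (B.flip v ∘ₗ J₀)) := by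
      refine (injective_iff_map_eq_zero _).2 fun x hx => hall x ?_
      exact ⟨congrArg Prod.fst hx, congrArg Prod.snd hx⟩
    have := LinearMap.finrank_le_finrank_of_injective hinj
    rw [hV, Module.finrank_prod, Module.finrank_self] at this
    omega
  have hx1 : B x v = 0 := hx.1
  have hx2 : B (J₀ x) v = 0 := hx.2
  have h1 : aeval J₀ (r - X) x = 0 := by
    have e := LinearMap.congr_fun hr x
    simp only [Module.End.mul_apply, LinearEquiv.coe_coe, tv_apply, hx1, hx2, mul_zero, zero_smul, add_zero] at e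
    rw [map_sub, aeval_X, LinearMap.sub_apply, ← e, sub_self]
  have hdvd : φ ∣ r - X := by
    by_contra hnd
    obtain ⟨a, b, hab⟩ := hφ.coprime_iff_not_dvd.2 hnd
    refine hx0 ?_
    have := congrArg (fun s : F[X] => aeval J₀ s x) hab
    simp only [map_add, map_mul, hJ₀, mul_zero, zero_add, Module.End.mul_apply, h1, map_zero, map_one,
      Module.End.one_apply] at this
    exact this.symm
  have hrJ : aeval J₀ r = J₀ := by
    obtain ⟨c, hc⟩ := hdvd
    have : aeval J₀ (r - X) = 0 := by rw [hc, map_mul, hJ₀, zero_mul]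
    rwa [map_sub, aeval_X, sub_eq_zero] at this
  obtain ⟨w, hw⟩ := alt_exists_partner hB.1 hv
  have hwv : B w v = -1 := by rw [alt_swap hA, hw]
  have e := LinearMap.congr_fun hr w
  rw [hrJ] at e
  simp only [Module.End.mul_apply, LinearEquiv.coe_coe, tv_apply, map_add, map_smul, hwv, mul_neg, mul_one,
    one_mul, neg_smul, one_smul, map_neg] at e
  have hev : J₀ v = (-B (J₀ w) v) • v := by
    linear_combination (norm := module) e
  have hroot : φ.IsRoot (-B (J₀ w) v) := by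
    have h := Module.End.aeval_apply_of_hasEigenvector (p := φ) ⟨Module.End.mem_eigenspace_iff.2 hev, hv⟩
    rw [hJ₀, LinearMap.zero_apply] at h
    exact (smul_eq_zero.1 h.symm).resolve_right hv
  have := natDegree_eq_of_degree_eq_some (n := 1) (degree_eq_one_of_irreducible_of_root hφ hroot)
  omega

end CfsgLib.KnownA.NormalCover.Sp6

namespace CfsgLib.KnownA.NormalCover

open CfsgLib.Classical Sp6 in
theorem psp_six {F : Type*} [Field F] [Fintype F] (a : ℕ) (ha : 1 ≤ a) (hq : Fintype.card F = 3 ^ a) :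
    ∃ H K : Subgroup (Cfsg.PSp 3 F), H ≠ ⊤ ∧ K ≠ ⊤ ∧
      ∀ g : Cfsg.PSp 3 F, ∃ x : Cfsg.PSp 3 F, x * g * x⁻¹ ∈ H ∨ x * g * x⁻¹ ∈ K := by
  classical
  have h3 : (3 : F) = 0 := by
    have h := FiniteField.cast_card_eq_zero F
    rw [hq] at h
    push_cast at h
    exact pow_eq_zero_iff (by omega) |>.1 h
  have h2 := two_ne_zero_of h3
  have hA := sympBil_isAlt (F := F) 3
  have hB := sympBil_nondegenerate (F := F) 3
  have hV : finrank F (Fin 3 ⊕ Fin 3 → F) = 6 := by simp
  obtain ⟨φ, -, hφ, hd⟩ := FieldStr.exists_irreducible (F := F) 3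
  haveI := Fact.mk hφ
  -- transport the model structure
  obtain ⟨m, b, hb⟩ := exists_sympBasis hA hB
  obtain ⟨m', b', hb'⟩ := exists_sympBasis (modelForm_isAlt (φ := φ)) modelForm_nondegenerate
  obtain rfl : m = m' := by
    have h1 := Module.finrank_eq_card_basis b
    have h2' := Module.finrank_eq_card_basis b'
    rw [hV, Fintype.card_sum, Fintype.card_fin] at h1
    rw [Module.finrank_pi_fintype, Fintype.card_sum, Fintype.card_fin] at h2'
    simp [finrank_model hd] at h2'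
    omega
  let e := b'.equiv b (Equiv.refl _)
  have he : ∀ x y, sympBil F 3 (e x) (e y) = modelForm φ x y :=
    hb'.basisEquiv_mem modelForm_isAlt hA b' b hb
  let ρ : AdjoinRoot φ →ₐ[F] Module.End F (Fin 2 → AdjoinRoot φ) := Algebra.lsmul F F (Fin 2 → AdjoinRoot φ)
  let Φ : Module.End F (Fin 2 → AdjoinRoot φ) ≃ₐ[F] Module.End F (Fin 3 ⊕ Fin 3 → F) := e.conjAlgEquiv F
  set J₀ := Φ (ρ (AdjoinRoot.root φ))
  have hJ₀ : aeval J₀ φ = 0 := by
    show aeval ((Φ.toAlgHom.comp ρ) (AdjoinRoot.root φ)) φ = 0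
    rw [aeval_algHom_apply, AdjoinRoot.aeval_eq, AdjoinRoot.mk_self, map_zero]
  have hs₀ : SelfAdj (sympBil F 3) J₀ := by
    intro x y
    obtain ⟨x, rfl⟩ := e.surjective x
    obtain ⟨y, rfl⟩ := e.surjective y
    simp only [J₀, Φ, LinearEquiv.conjAlgEquiv_apply, LinearMap.comp_apply, LinearEquiv.coe_coe,
      LinearEquiv.symm_apply_apply, he]
    simp only [modelForm, detForm_apply, ρ, Algebra.lsmul_coe, Pi.smul_apply, smul_eq_mul]
    congr 1
    ring
  obtain ⟨u₀, hu₀⟩ : ∃ u₀ : Fin 3 ⊕ Fin 3 → F, u₀ ≠ 0 :=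
    ⟨Pi.single (.inl 0) 1, fun h => by simpa using congrFun h (.inl 0)⟩
  obtain ⟨v₀, huv⟩ := alt_exists_partner hB.1 hu₀
  have hc := (covers hA hB h3 hV hφ hd hJ₀ hs₀ huv).comap (spEquiv (F := F) (m := 3))
  have hcen : ∀ z ∈ Subgroup.center (Matrix.symplecticGroup (Fin 3) F),
      spEquiv 3 z ∈ isomStab (sympBil F 3) (Submodule.span F {u₀, v₀}) ∧ spEquiv 3 z ∈ algNormalizer (sympBil F 3) J₀ := by
    intro z hz
    refine neg_one_cases ?_ J₀ _
    rcases sp_center_eq 3 hz with h | h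
    · exact Or.inl fun x => by rw [spEquiv_apply, h, Matrix.one_mulVec]
    · exact Or.inr fun x => by rw [spEquiv_apply, h, Matrix.neg_mulVec, Matrix.one_mulVec]
  exact hc.quotient (fun z hz => (hcen z hz).1) (comap_ne_top _ (stab_ne_top hA hB hV huv))
    (fun z hz => (hcen z hz).2) (comap_ne_top _ (algNormalizer_ne_top hA hB hV hφ hd hJ₀))

end CfsgLib.KnownA.NormalCover
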