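import Cfsg.Agent.Lib.Classical.SympOrthMax
import Cfsg.Agent.Lib.Classical.SympMatrix
import Cfsg.Agent.Lib.KnownA.NormalCover.Common

/-!
# Every symplectic transformation in characteristic two fixes a quadratic form
-/

set_option autoImplicit false
set_option linter.unusedSectionVars false

open Module

namespace CfsgLib.KnownA.NormalCover.SpEven

open CfsgLib.Classical

variable {F : Type*} [Field F] [CharP F 2] [Finite F]

/-- The elements of the form `x² + x`. -/
def asRange (F : Type*) [Field F] [CharP F 2] : AddSubgroup F :=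
  AddMonoidHom.range
    { toFun := fun x : F => x ^ 2 + x
      map_zero' := by simp
      map_add' := fun x y => by rw [CharTwo.add_sq]; abel }

theorem mem_asRange {a : F} : a ∈ asRange F ↔ ∃ x, x ^ 2 + x = a := Iff.rfl

theorem index_asRange : (asRange F).index = 2 := by
  let φ : F →+ F :=
    { toFun := fun x : F => x ^ 2 + x
      map_zero' := by simp
      map_add' := fun x y => by rw [CharTwo.add_sq]; abel }
  have hk : (φ.ker : Set F) = {0, 1} := by
    ext x
    show x ^ 2 + x = 0 ↔ x ∈ ({0, 1} : Set F)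
    rw [show x ^ 2 + x = x * (x + 1) by ring, mul_eq_zero, CharTwo.add_eq_zero]
    rfl
  have h2 : Nat.card φ.ker = 2 := by
    rw [show Nat.card φ.ker = (φ.ker : Set F).ncard from Nat.card_coe_set_eq _, hk,
      Set.ncard_pair zero_ne_one]
  have h1 : Nat.card φ.range * Nat.card φ.ker = Nat.card F := by
    rw [← AddSubgroup.index_ker, mul_comm]
    exact φ.ker.card_mul_index
  have h3 : Nat.card φ.range * (asRange F).index = Nat.card F := φ.range.card_mul_index
  rw [h2] at h1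
  exact mul_left_cancel₀ (Nat.card_pos (α := φ.range)).ne' (h3.trans h1.symm)

variable {V : Type*} [AddCommGroup V] [Module F V] [FiniteDimensional F V] {B : V →ₗ[F] V →ₗ[F] F}

/-- The form `Q + B(·, w)²`. -/
def shift (B : V →ₗ[F] V →ₗ[F] F) (Q : V → F) (w : V) : V → F := fun v => Q v + B v w ^ 2

theorem shift_quadOf {Q : V → F} (hQ : QuadOf B Q) (w : V) : QuadOf B (shift B Q w) :=
  ⟨fun x y => by simp only [shift, hQ.add, map_add, LinearMap.add_apply, CharTwo.add_sq]; abel,
    fun c x => by simp only [shift, hQ.smul, map_smul, LinearMap.smul_apply, smul_eq_mul]; ring⟩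

theorem exists_fixed (hN : B.Nondegenerate) {Q : V → F} (hQ : QuadOf B Q) (g : isomGroup B) :
    ∃ w, g ∈ quadStab B (shift B Q w) := by
  classical
  choose r hr using fun a : F => exists_sq_root a
  have hadd : ∀ x y, Q (g.1 (x + y)) + Q (x + y) = (Q (g.1 x) + Q x) + (Q (g.1 y) + Q y) := fun x y => by
    rw [map_add, hQ.add, hQ.add, g.2]
    have := CharTwo.add_self_eq_zero (B x y)
    linear_combination this
  let ℓ : V →ₗ[F] F :=
    { toFun := fun v => r (Q (g.1 v) + Q v)
      map_add' := fun x y => CharTwo.sq_injective <| by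
        simp only [CharTwo.add_sq, hr, hadd]
      map_smul' := fun c x => CharTwo.sq_injective <| by
        simp only [hr, RingHom.id_apply, smul_eq_mul, mul_pow, map_smul, hQ.smul]; ring }
  have hker : ℓ ∈ LinearMap.range (g.1.toLinearMap - LinearMap.id).dualMap := by
    rw [LinearMap.range_dualMap_eq_dualAnnihilator_ker, Submodule.mem_dualAnnihilator]
    intro v hv
    have e : g.1 v = v := sub_eq_zero.1 hv
    exact CharTwo.sq_injective (by simp [ℓ, hr, e, CharTwo.add_self_eq_zero])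
  obtain ⟨μ, hμ⟩ := hker
  have hinj : Function.Injective B.flip := by
    rw [← LinearMap.ker_eq_bot, LinearMap.ker_eq_bot']
    exact fun x hx => hN.2 x fun y => LinearMap.congr_fun hx y
  obtain ⟨w, hw⟩ := (LinearMap.injective_iff_surjective_of_finrank_eq_finrank
    (Subspace.dual_finrank_eq (K := F) (V := V)).symm).1 hinj μ
  refine ⟨w, fun v => ?_⟩
  have h : r (Q (g.1 v) + Q v) = B (g.1 v) w + B v w := by
    have := LinearMap.congr_fun hμ v
    rw [← hw] at this
    simpa [ℓ, CharTwo.sub_eq_add] using this.symm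
  have h2 := congrArg (· ^ 2) h
  simp only [hr, CharTwo.add_sq] at h2
  show Q (g.1 v) + B (g.1 v) w ^ 2 = Q v + B v w ^ 2
  rw [← CharTwo.add_eq_zero]
  rw [← CharTwo.add_eq_zero] at h2
  linear_combination h2

theorem apply_tv (hA : B.IsAlt) {Q : V → F} (hQ : QuadOf B Q) (v : V) (c : F) (x : V) :
    Q ((tv hA v c).1 x) = Q x + (c ^ 2 * Q v + c) * B x v ^ 2 := by
  rw [tv_apply, hQ.add, hQ.smul, map_smul, smul_eq_mul]
  ring

theorem exists_move (hA : B.IsAlt) {Q : V → F} (hQ : QuadOf B Q) {v : V} (hv : Q v ∈ asRange F) :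
    ∃ t : isomGroup B, ∀ x, Q (t.1 x) = shift B Q v x := by
  obtain ⟨a, ha⟩ := mem_asRange.1 hv
  by_cases h0 : Q v = 0
  · exact ⟨tv hA v 1, fun x => by rw [apply_tv hA hQ, h0]; simp [shift]⟩
  · refine ⟨tv hA v (a / Q v), fun x => ?_⟩
    rw [apply_tv hA hQ, show (a / Q v) ^ 2 * Q v + a / Q v = (a ^ 2 + a) / Q v by field_simp, ha, div_self h0]
    simp [shift]

theorem conj_mem_quadStab (g t : isomGroup B) {Q R : V → F} (ht : ∀ x, Q (t.1 x) = R x)
    (hg : g ∈ quadStab B R) : t * g * t⁻¹ ∈ quadStab B Q := fun x => by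
  rw [Subgroup.coe_mul, Subgroup.coe_mul, LinearEquiv.mul_apply, LinearEquiv.mul_apply, ht, hg, ← ht,
    ← LinearEquiv.mul_apply, ← Subgroup.coe_mul, mul_inv_cancel]
  rfl

theorem quadStab_ne_top (hA : B.IsAlt) (hN : B.Nondegenerate) {Q : V → F} (hQ : QuadOf B Q)
    (hs : ∀ w, ∃ v, v ≠ 0 ∧ Q v = 0 ∧ B v w = 0) (w : V) : quadStab B (shift B Q w) ≠ ⊤ := by
  intro h
  obtain ⟨v, hv, hQv, hBv⟩ := hs w
  obtain ⟨x, hx⟩ := alt_exists_partner hN.1 hv
  have h1 := (h ▸ Subgroup.mem_top (tv hA v 1) : tv hA v 1 ∈ quadStab B (shift B Q w)) x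
  rw [apply_tv hA (shift_quadOf hQ w)] at h1
  have hx' : B x v = 1 := by rw [alt_swap hA, hx, CharTwo.neg_eq]
  simp [shift, hQv, hBv, hx'] at h1

theorem exists_covers (hA : B.IsAlt) (hN : B.Nondegenerate) {Q : V → F} (hQ : QuadOf B Q)
    (hs : ∀ w, ∃ v, v ≠ 0 ∧ Q v = 0 ∧ B v w = 0) :
    ∃ H K : Subgroup (isomGroup B), H ≠ ⊤ ∧ K ≠ ⊤ ∧ Covers H K := by
  classical
  obtain ⟨w₁, hw₁⟩ : ∃ w₁, ∀ w, Q w ∉ asRange F → Q w₁ ∉ asRange F := by
    by_cases h : ∃ w, Q w ∉ asRange F
    · obtain ⟨w₁, h₁⟩ := h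
      exact ⟨w₁, fun _ _ => h₁⟩
    · exact ⟨0, fun w hw => absurd ⟨w, hw⟩ h⟩
  refine ⟨_, _, quadStab_ne_top hA hN hQ hs 0, quadStab_ne_top hA hN hQ hs w₁, fun g => ?_⟩
  obtain ⟨w, hw⟩ := exists_fixed hN hQ g
  by_cases hQw : Q w ∈ asRange F
  · obtain ⟨t, ht⟩ := exists_move hA hQ hQw
    exact ⟨t, Or.inl (conj_mem_quadStab g t (fun x => by simpa [shift] using ht x) hw)⟩
  · have hv : shift B Q w₁ (w + w₁) ∈ asRange F := by
      have h₂ : Q w + Q w₁ ∈ asRange F :=
        (AddSubgroup.add_mem_iff_of_index_two index_asRange).2 (iff_of_false hQw (hw₁ w hQw))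
      have h₃ : B w w₁ + B w w₁ ^ 2 ∈ asRange F := ⟨B w w₁, add_comm _ _⟩
      rw [show shift B Q w₁ (w + w₁) = (Q w + Q w₁) + (B w w₁ + B w w₁ ^ 2) by
        simp [shift, hQ.add, hA w₁]; ring]
      exact add_mem h₂ h₃
    obtain ⟨t, ht⟩ := exists_move hA (shift_quadOf hQ w₁) hv
    refine ⟨t, Or.inr (conj_mem_quadStab g t (fun x => ?_) hw)⟩
    rw [ht]
    simp only [shift, map_add, CharTwo.add_sq]
    linear_combination (CharTwo.add_self_eq_zero (B x w₁ ^ 2))

end CfsgLib.KnownA.NormalCover.SpEven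

namespace CfsgLib.KnownA.NormalCover

open CfsgLib.Classical

theorem psp_even {F : Type*} [Field F] [Fintype F] (m : ℕ) (hm : 2 ≤ m) (hF : ¬ Odd (Fintype.card F)) :
    ∃ H K : Subgroup (Cfsg.PSp m F), H ≠ ⊤ ∧ K ≠ ⊤ ∧
      ∀ g : Cfsg.PSp m F, ∃ x : Cfsg.PSp m F, x * g * x⁻¹ ∈ H ∨ x * g * x⁻¹ ∈ K := by
  classical
  have h2 : ringChar F = 2 := FiniteField.even_card_iff_char_two.2 (Nat.even_iff.1 (Nat.not_odd_iff_even.1 hF))
  haveI : CharP F 2 := ringChar.of_eq h2
  set Q : (Fin m ⊕ Fin m → F) → F := fun x => ∑ i, x (Sum.inl i) * x (Sum.inr i) with hQdef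
  have hQ : QuadOf (sympBil F m) Q := ⟨fun x y => by
      simp only [hQdef, sympBil_apply, sympForm_eq, Pi.add_apply, ← Finset.sum_add_distrib, CharTwo.sub_eq_add]
      exact Finset.sum_congr rfl fun i _ => by ring,
    fun c x => by
      simp only [hQdef, Pi.smul_apply, smul_eq_mul, Finset.mul_sum]
      exact Finset.sum_congr rfl fun i _ => by ring⟩
  have hs : ∀ w, ∃ v, v ≠ 0 ∧ Q v = 0 ∧ sympBil F m v w = 0 := by
    intro w
    let ι₀ : (Fin m → F) →ₗ[F] (Fin m ⊕ Fin m → F) :=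
      { toFun := fun a => Sum.elim a 0, map_add' := fun a b => by ext (i | i) <;> simp
        map_smul' := fun c a => by ext (i | i) <;> simp }
    let L : (Fin m → F) →ₗ[F] F := ((sympBil F m).flip w).comp ι₀
    have hnot : ¬ Function.Injective L := fun hi => by
      have := LinearMap.finrank_le_finrank_of_injective hi
      simp at this
      omega
    rw [← LinearMap.ker_eq_bot] at hnot
    obtain ⟨a, ha, ha0⟩ := Submodule.exists_mem_ne_zero_of_ne_bot hnot
    exact ⟨Sum.elim a 0, fun h => ha0 (funext fun i => congrFun h (Sum.inl i)), by simp [hQdef], ha⟩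
  obtain ⟨H, K, hH, hK, hc⟩ := SpEven.exists_covers (sympBil_isAlt (F := F) m) (sympBil_nondegenerate m) hQ hs
  have hcen : Subgroup.center (Matrix.symplecticGroup (Fin m) F) = ⊥ := by
    refine (Subgroup.eq_bot_iff_forall _).2 fun A hA => ?_
    rcases sp_center_eq m hA with h | h
    · exact Subtype.ext h
    · refine Subtype.ext (h.trans ?_)
      ext i j
      simp [CharTwo.neg_eq]
  exact (hc.comap (spEquiv (F := F) (m := m))).quotient (by rw [hcen]; exact bot_le) (comap_ne_top _ hH)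
    (by rw [hcen]; exact bot_le) (comap_ne_top _ hK)

end CfsgLib.KnownA.NormalCover
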